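import Cfsg.Agent.LThreeBX.Main
import Cfsg.Agent.LThreeB.FromM
import Cfsg.Agent.LThreeB.Final
import Cfsg.Agent.LThreeMB.CoOneFin
import Cfsg.Agent.H546.MElevenB_m3
import Cfsg.Agent.H701.SporFi24
import Cfsg.Agent.OddHalf.D4.Spor.FiTF_m3
import Cfsg.Agent.MonsterX.ThOneClass
import Cfsg.Agent.LThreeM.FiRow_mg
import Cfsg.Agent.H58.Mon.FiveB_m3
import Cfsg.Agent.CoThreeStd.MTwelveCent
import Cfsg.Agent.H573.Spor.Lift
import Cfsg.Agent.H705.OreB.BInvFive
import Cfsg.Agent.H546.MFiveFull_m3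
import Cfsg.Agent.H800.ME.Final
import Mathlib.GroupTheory.PGroup
import Mathlib.GroupTheory.GroupAction.Quotient
import Mathlib.Tactic.NormNum.Prime
import Mathlib.Tactic.IntervalCases
import Cfsg.Agent.Solvable.Hall
import Cfsg.Agent.S0205
import Cfsg.Agent.H134.Sq.Base_m3
import Cfsg.Agent.FastGrp
import Cfsg.Agent.Prune
set_option linter.all false

section
prune_inst 0x7ffdfefbbff8bddfffff7e7ffffddffffdfcffffefdff9fbffedfbffefdf6b67ebe5fbaf6fecd8fefef7e23410f87b53f9ffceffe36bdc7ffffd5ff45fffff9fffffbf0951d6983e0ffe6ffffbfb7fafffffffffffffffffffffffffffffffffffffffffffff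

-- part: H740/OreM/Three
section
prune_inst 0x2000000000000000000000000000000010000000000000010000000000008041000008003020001001000020000a004001000009000000000000020000000000000260c002000100010000004800000000000000000000000000000000000000000000000
set_option linter.all false
open scoped Cfsg.Agent.FastGrp

-- part: H740/OreM/Abs
section
/-!
# S2443, row M, piece MP3: a group with an isolated involution whose centralizer is an extension of `Suz` (helper740)

`D` finite, `z` isolated, `f : C(z) → Suz` onto. Then `D = N C(z)`, and the order of the odd normal subgroup `N` is a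
`{3, 5}`-number if the order of `D` divides the order of the Monster; so the centralizer of an involution `t ≠ z` is small.
-/

set_option autoImplicit false
set_option linter.unusedSectionVars false

namespace Cfsg.Agent.H740.OreM.Abs

open Subgroup Cfsg Cfsg.Agent.LThreeBX.Abs

universe u v

/-- two involutions whose product has odd order -/
theorem conj_of_odd {G : Type*} [Group G] {a b : G} (ha : a * a = 1) (hb : b * b = 1) {m : ℕ}
    (hm : (a * b) ^ (2 * m + 1) = 1) : ∃ g : G, g * b * g⁻¹ = a := by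
  refine ⟨b * (a * b) ^ m, ?_⟩
  have hai : a⁻¹ = a := inv_eq_of_mul_eq_one_left ha
  have hbi : b⁻¹ = b := inv_eq_of_mul_eq_one_left hb
  have h1 : b * ((a * b) ^ m)⁻¹ * b = (a * b) ^ m := by
    have h2 : b * (a * b)⁻¹ * b⁻¹ = a * b := by
      rw [mul_inv_rev, hai, hbi]
      calc b * (b * a) * b = (b * b) * a * b := by group
        _ = a * b := by rw [hb, one_mul]
    calc b * ((a * b) ^ m)⁻¹ * b = b * ((a * b)⁻¹) ^ m * b⁻¹ := by rw [inv_pow, hbi]
      _ = (b * (a * b)⁻¹ * b⁻¹) ^ m := by rw [conj_pow]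
      _ = (a * b) ^ m := by rw [h2]
  have h3 : (a * b) ^ m * b * ((a * b) ^ m)⁻¹ = (a * b) ^ m * (a * b) ^ m * b := by
    calc (a * b) ^ m * b * ((a * b) ^ m)⁻¹ = (a * b) ^ m * (b * ((a * b) ^ m)⁻¹ * b) * b⁻¹ := by group
      _ = (a * b) ^ m * (a * b) ^ m * b := by rw [h1, hbi]
  have h4 : (a * b) ^ m * (a * b) ^ m = b * a := by
    have h5 : (a * b) ^ m * (a * b) ^ m * (a * b) = 1 := by
      rw [← pow_add, ← pow_succ, ← two_mul]; exact hm
    rw [mul_eq_one_iff_eq_inv.1 h5, mul_inv_rev, hai, hbi]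
  calc b * (a * b) ^ m * b * (b * (a * b) ^ m)⁻¹ = b * ((a * b) ^ m * b * ((a * b) ^ m)⁻¹) * b⁻¹ := by group
    _ = b * (b * a * b) * b := by rw [h3, h4, hbi]
    _ = (b * b) * a * (b * b) := by group
    _ = a := by rw [hb, one_mul, mul_one]

variable {D : Type u} [Group D] [Finite D] {z : D} {S : Type v} [Group S]

/-- The decomposition `D = N C(z)` and the homomorphism `F : D → S`. -/
structure Hyp (z : D) (f : ↥(centralizer ({z} : Set D)) →* S) (N : Subgroup D) (F : D →* S) : Prop where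
  zz : z * z = 1
  nor : N.Normal
  odd : Odd (Nat.card ↥N)
  FN : ∀ n ∈ N, F n = 1
  Fc : ∀ c : ↥(centralizer ({z} : Set D)), F c = f c
  dec : ∀ d : D, ∃ n ∈ N, ∃ c : ↥(centralizer ({z} : Set D)), d = n * c
  ker : ∀ k : ↥(centralizer ({z} : Set D)), f k = 1 → (k : D) ∈ N ∨ (k : D) * z ∈ N

theorem exists_hyp (hz : orderOf z = 2)
    (hiso : ∀ d : D, (d * z * d⁻¹) * z = z * (d * z * d⁻¹) → d * z * d⁻¹ = z)
    [hS : IsSimpleGroup S] (hev : Even (Nat.card S)) (f : ↥(centralizer ({z} : Set D)) →* S)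
    (hf : Function.Surjective f) (Z : Subgroup D) (hZ : Z ≤ center D) (hZo : Odd (Nat.card ↥Z))
    (hk : ∀ k : ↥(centralizer ({z} : Set D)), f k = 1 → (k : D) ∈ Z ∨ (k : D) * z ∈ Z) :
    ∃ (N : Subgroup D) (F : D →* S), Hyp z f N F := by
  obtain ⟨N₀, hN₀, hN₀o, hsup₀⟩ := Cfsg.Agent.LThreeMB.ZStar.exists_core hz hiso
  have hZn : Z.Normal := ⟨fun a ha g => by
    rw [mem_center_iff.1 (hZ ha) g, mul_inv_cancel_right]; exact ha⟩
  let N := N₀ ⊔ Z
  have hN : N.Normal := inferInstance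
  have hNo : Odd (Nat.card ↥N) := by
    have h1 : Nat.card ↥N ∣ Nat.card ↥N₀ * Nat.card ↥Z := by
      have h2 : N₀.relIndex N ∣ Nat.card ↥Z := by
        show N₀.relIndex (N₀ ⊔ Z) ∣ _
        rw [Subgroup.relIndex_sup_left]
        exact Subgroup.relIndex_dvd_card N₀ Z
      have h3 : Nat.card ↥N₀ * N₀.relIndex N = Nat.card ↥N := by
        rw [← Subgroup.relIndex_bot_left N₀, ← Subgroup.relIndex_bot_left N]
        exact Subgroup.relIndex_mul_relIndex _ _ _ bot_le le_sup_left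
      rw [← h3]
      exact Nat.mul_dvd_mul_left _ h2
    exact (hN₀o.mul hZo).of_dvd_nat h1
  have hsup : N ⊔ centralizer ({z} : Set D) = ⊤ := by
    rw [eq_top_iff, ← hsup₀]
    exact sup_le_sup_right le_sup_left _
  let α : ↥(centralizer ({z} : Set D)) →* D ⧸ N := (QuotientGroup.mk' N).comp (centralizer ({z} : Set D)).subtype
  have hα : Function.Surjective α := by
    intro y
    obtain ⟨g, rfl⟩ := QuotientGroup.mk'_surjective N y
    have hg : g ∈ N ⊔ centralizer ({z} : Set D) := by rw [hsup]; trivial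
    obtain ⟨n, hn, c, hc, rfl⟩ := mem_sup_of_normal_left.1 hg
    refine ⟨⟨c, hc⟩, ?_⟩
    show QuotientGroup.mk' N c = QuotientGroup.mk' N (n * c)
    rw [map_mul, show QuotientGroup.mk' N n = 1 from (QuotientGroup.eq_one_iff _).2 hn, one_mul]
  have hαk : α.ker = N.subgroupOf (centralizer ({z} : Set D)) := by
    ext x
    rw [MonoidHom.mem_ker, mem_subgroupOf]
    exact QuotientGroup.eq_one_iff _
  have hSf : Finite S := Finite.of_surjective f hf
  have hle : α.ker ≤ f.ker := by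
    rw [hαk]
    have h1 : ((N.subgroupOf (centralizer ({z} : Set D))).map f).Normal := Subgroup.Normal.map inferInstance f hf
    have h2 : Nat.card ↥((N.subgroupOf (centralizer ({z} : Set D))).map f) ∣ Nat.card ↥N := by
      refine (card_map_dvd _ f).trans ?_
      have h3 : Nat.card ↥(N.subgroupOf (centralizer ({z} : Set D))) =
          Nat.card ↥((N.subgroupOf (centralizer ({z} : Set D))).map (centralizer ({z} : Set D)).subtype) :=
        (card_map_of_injective (Subgroup.subtype_injective _)).symm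
      rw [h3, subgroupOf_map_subtype]
      exact card_dvd_of_le inf_le_left
    rcases h1.eq_bot_or_eq_top with h | h
    · exact (Subgroup.map_eq_bot_iff _).1 h
    · exfalso
      rw [h, card_top] at h2
      exact (Nat.not_even_iff_odd.2 (hNo.of_dvd_nat h2)) hev
  obtain ⟨ρ, hρ⟩ := Cfsg.Agent.LThreeMB.exists_fac α hα f (fun a ha => hle ha)
  refine ⟨N, ρ.comp (QuotientGroup.mk' N), ?_, hN, hNo, ?_, ?_, ?_, ?_⟩
  · rw [← pow_two, ← hz, pow_orderOf_eq_one]
  · intro n hn
    show ρ (QuotientGroup.mk' N n) = 1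
    rw [show QuotientGroup.mk' N n = 1 from (QuotientGroup.eq_one_iff _).2 hn, map_one]
  · intro c
    exact hρ c
  · intro d
    have hg : d ∈ N ⊔ centralizer ({z} : Set D) := by rw [hsup]; trivial
    obtain ⟨n, hn, c, hc, rfl⟩ := mem_sup_of_normal_left.1 hg
    exact ⟨n, hn, ⟨c, hc⟩, rfl⟩
  · intro k h
    rcases hk k h with h1 | h1
    · exact Or.inl ((le_sup_right : Z ≤ N) h1)
    · exact Or.inr ((le_sup_right : Z ≤ N) h1)

variable {f : ↥(centralizer ({z} : Set D)) →* S} {N : Subgroup D} {F : D →* S}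

theorem Hyp.cube (H : Hyp z f N F) (hK : Ker f) {k : D} (hk : k ∈ N) (hkz : k * z = z * k) : k ^ 3 = 1 := by
  have h1 : f ⟨k, mem_centralizer_singleton_iff.2 hkz⟩ = 1 := by
    rw [← H.Fc]; exact H.FN k hk
  have h2 := hK.six _ h1
  have h3 : k ^ 6 = 1 := congrArg Subtype.val h2
  have h4 : orderOf k ∣ 6 := orderOf_dvd_of_pow_eq_one h3
  have h5 : Odd (orderOf k) := by
    have h6 : orderOf (⟨k, hk⟩ : ↥N) ∣ Nat.card ↥N := _root_.orderOf_dvd_natCard _
    rw [Subgroup.orderOf_mk] at h6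
    exact H.odd.of_dvd_nat h6
  have h7 : orderOf k ∣ 3 := by
    have h8 : (orderOf k).Coprime 2 := Nat.coprime_two_right.2 h5
    exact h8.dvd_of_dvd_mul_left (by norm_num; exact h4)
  exact orderOf_dvd_iff_pow_eq_one.1 h7

/-- elements with `F = 1` -/
theorem Hyp.of_F (H : Hyp z f N F) {d : D} (hd : F d = 1) : d ∈ N ∨ ∃ n ∈ N, d = n * z := by
  obtain ⟨n, hn, c, rfl⟩ := H.dec d
  rw [map_mul, H.FN n hn, one_mul, H.Fc] at hd
  rcases H.ker c hd with h | h
  · exact Or.inl (mul_mem hn h)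
  · refine Or.inr ⟨n * (c * z), mul_mem hn h, ?_⟩
    rw [mul_assoc, mul_assoc, H.zz, mul_one]

/-- an element of `N z` centralizing a `q`-subgroup of `N`, `q ≠ 3` -/
theorem Hyp.not_cent (H : Hyp z f N F) (hK : Ker f) {q : ℕ} [hq : Fact q.Prime] (hq3 : q ≠ 3) {R : Subgroup D}
    (hR : IsPGroup q ↥R) (hRN : R ≤ N) {c n : D} (hn : n ∈ N) (hc : c = n * z) (hcR : c ∈ centralizer (R : Set D)) :
    R = ⊥ := by
  have hN := H.nor
  obtain ⟨m, hm⟩ := H.odd
  -- `c ^ |N|`
  have h2 : ∀ k : ℕ, ∃ n' ∈ N, c ^ (2 * k + 1) = n' * z := by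
    intro k
    have h1 : c ^ 2 ∈ N := by
      rw [hc, pow_two]
      have : n * z * (n * z) = n * (z * n * z⁻¹) * (z * z) := by group
      rw [this, H.zz, mul_one]
      exact mul_mem hn (hN.conj_mem n hn z)
    refine ⟨(c ^ 2) ^ k * n, mul_mem (pow_mem h1 k) hn, ?_⟩
    rw [pow_succ, pow_mul, mul_assoc, ← hc]
  obtain ⟨n', hn', h3⟩ := h2 m
  have h4 : c ^ (2 * m + 1) * c ^ (2 * m + 1) = 1 := by
    have h1 : c ^ 2 ∈ N := by
      rw [hc, pow_two]
      have : n * z * (n * z) = n * (z * n * z⁻¹) * (z * z) := by group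
      rw [this, H.zz, mul_one]
      exact mul_mem hn (hN.conj_mem n hn z)
    have h5 : (c ^ 2) ^ (Nat.card ↥N) = 1 := by
      have := congrArg Subtype.val (pow_card_eq_one' (x := (⟨c ^ 2, h1⟩ : ↥N)))
      exact this
    rw [← pow_add, ← two_mul, pow_mul, ← hm]
    exact h5
  -- conjugate to `z`
  have h5 : (c ^ (2 * m + 1) * z) ^ (2 * m + 1) = 1 := by
    rw [h3, mul_assoc, H.zz, mul_one, ← hm]
    have := congrArg Subtype.val (pow_card_eq_one' (x := (⟨n', hn'⟩ : ↥N)))
    exact this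
  obtain ⟨d, hd⟩ := conj_of_odd h4 H.zz h5
  rw [eq_bot_iff]
  intro r hr
  have h6 : Commute r (c ^ (2 * m + 1)) := by
    have : Commute r c := mem_centralizer_iff.1 hcR r hr
    exact this.pow_right _
  rw [← hd] at h6
  have h7 : (d⁻¹ * r * d) * z = z * (d⁻¹ * r * d) := by
    calc (d⁻¹ * r * d) * z = d⁻¹ * (r * (d * z * d⁻¹)) * d := by group
      _ = d⁻¹ * ((d * z * d⁻¹) * r) * d := by rw [h6.eq]
      _ = _ := by group
  have h8 : d⁻¹ * r * d ∈ N := by
    have := hN.conj_mem r (hRN hr) d⁻¹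
    rwa [inv_inv] at this
  have h9 := H.cube hK h8 h7
  have h10 : r ^ 3 = 1 := by
    have h11 : (d⁻¹ * r * d⁻¹⁻¹) ^ 3 = 1 := by rw [inv_inv]; exact h9
    rw [conj_pow] at h11
    calc r ^ 3 = d * (d⁻¹ * r ^ 3 * d⁻¹⁻¹) * d⁻¹ := by group
      _ = 1 := by rw [h11]; group
  rw [mem_bot]
  obtain ⟨k, hk⟩ := hR ⟨r, hr⟩
  have h12 : r ^ q ^ k = 1 := congrArg Subtype.val hk
  have h13 : orderOf r ∣ Nat.gcd 3 (q ^ k) := Nat.dvd_gcd (orderOf_dvd_of_pow_eq_one h10) (orderOf_dvd_of_pow_eq_one h12)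
  have h14 : Nat.gcd 3 (q ^ k) = 1 := Nat.Coprime.pow_right _ ((Nat.coprime_primes Nat.prime_three hq.out).2 hq3.symm)
  rw [h14, Nat.dvd_one, orderOf_eq_one_iff] at h13
  exact h13

/-- an element of `C_D(R)` with `F d ^ m = 1`: a power of it in `C(z)` -/
theorem Hyp.lift (H : Hyp z f N F) (hK : Ker f) {q : ℕ} [hq : Fact q.Prime] (hq3 : q ≠ 3) {R : Subgroup D}
    (hR : IsPGroup q ↥R) (hRN : R ≤ N) (hR1 : R ≠ ⊥) {d : D} (hd : d ∈ centralizer (R : Set D)) {m : ℕ}
    (hm : F d ^ m = 1) : ∃ c : ↥(centralizer ({z} : Set D)), c ^ m = 1 ∧ f c = F d ^ 3 := by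
  have hN := H.nor
  obtain ⟨n, hn, c, hdc⟩ := H.dec d
  have h1 : d ^ m ∈ N := by
    rcases H.of_F (d := d ^ m) (by rw [map_pow, hm]) with h | ⟨n', hn', h⟩
    · exact h
    · exact absurd (H.not_cent hK hq3 hR hRN hn' h (pow_mem hd m)) hR1
  have h2 : (c : D) ^ m ∈ N := by
    have h3 : (QuotientGroup.mk' N) (d ^ m) = 1 := (QuotientGroup.eq_one_iff _).2 h1
    rw [map_pow, hdc, map_mul, show QuotientGroup.mk' N n = 1 from (QuotientGroup.eq_one_iff _).2 hn, one_mul,
      ← map_pow] at h3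
    exact (QuotientGroup.eq_one_iff _).1 h3
  have h3 : (c : D) ^ m * z = z * (c : D) ^ m :=
    ((show Commute (c : D) z from mem_centralizer_singleton_iff.1 c.2).pow_left m).eq
  have h4 := H.cube hK h2 h3
  refine ⟨c ^ 3, ?_, ?_⟩
  · apply Subtype.ext
    show ((c : D) ^ 3) ^ m = 1
    rw [← pow_mul, mul_comm, pow_mul]
    exact h4
  · rw [map_pow, ← H.Fc, hdc, map_mul, H.FN n hn, one_mul]

/-- **`F` does not map `C_D(R)` onto `Suz`.** -/
theorem Hyp.not_top (H : Hyp z f N F) (hK : Ker f) (e : S ≃* Spor.Suz)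
    (h7 : ∀ t g : ↥(centralizer ({z} : Set D)), t * t = 1 → f t ≠ 1 → g ^ 7 = 1 → g * t = t * g → g = 1)
    {q : ℕ} [hq : Fact q.Prime] (hq3 : q ≠ 3) {R : Subgroup D} (hR : IsPGroup q ↥R) (hRN : R ≤ N) (hR1 : R ≠ ⊥) :
    (centralizer (R : Set D)).map F ≠ ⊤ := by
  intro htop
  have hfin : Finite Spor.Suz := CTwoTab.Suz.finSuz
  have : Fact (Nat.Prime 7) := ⟨by norm_num⟩
  have hd : 7 ∣ Nat.card ↥KFacts.SuzTwoB.CE := by rw [KFacts.SuzTwoB.card_CE]; norm_num
  obtain ⟨⟨y, hyC⟩, hy⟩ := exists_prime_orderOf_dvd_card' 7 hd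
  have hyo : orderOf y = 7 := by rwa [Subgroup.orderOf_mk] at hy
  have hyc : y * KFacts.SuzLFour.e0 = KFacts.SuzLFour.e0 * y := KFacts.SuzTwoB.mem_CE.1 hyC
  have he1 : KFacts.SuzLFour.e0 ≠ 1 := by
    intro h
    have h1 := KFacts.SuzTwoB.card_CE
    have h2 : KFacts.SuzTwoB.CE = ⊤ := by
      rw [eq_top_iff]
      intro g _
      rw [KFacts.SuzTwoB.mem_CE, h, one_mul, mul_one]
    have h3 := Cfsg.Agent.S1694.result.2
    rw [h2, card_top] at h1
    rw [h1] at h3
    norm_num at h3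
  obtain ⟨d1, hd1, hF1⟩ : e.symm KFacts.SuzLFour.e0 ∈ (centralizer (R : Set D)).map F := by rw [htop]; trivial
  obtain ⟨d7, hd7, hF7⟩ : e.symm y ∈ (centralizer (R : Set D)).map F := by rw [htop]; trivial
  obtain ⟨t, ht, hft⟩ := H.lift hK hq3 hR hRN hR1 hd1 (m := 2) (by
    rw [hF1, ← map_pow, pow_two, KFacts.SuzLFour.e0_sq, map_one])
  obtain ⟨g, hg, hfg⟩ := H.lift hK hq3 hR hRN hR1 hd7 (m := 7) (by
    rw [hF7, ← map_pow, ← hyo, pow_orderOf_eq_one, map_one])
  have he3 : KFacts.SuzLFour.e0 ^ 3 = KFacts.SuzLFour.e0 := by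
    rw [pow_succ, pow_two, KFacts.SuzLFour.e0_sq, one_mul]
  rw [hF1, ← map_pow, he3] at hft
  rw [hF7, ← map_pow] at hfg
  have htt : t * t = 1 := by rw [← pow_two]; exact ht
  have hft1 : f t ≠ 1 := by
    rw [hft]
    intro h
    exact he1 (e.symm.injective (by rw [h, map_one]))
  have hcomm : f g * f t = f t * f g := by
    rw [hfg, hft, ← map_mul, ← map_mul]
    congr 1
    exact (show Commute y KFacts.SuzLFour.e0 from hyc).pow_left 3
  have hsq := comm_sq f hK H.zz htt hcomm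
  have hgt : g * t = t * g := by
    have h1 : Commute (g * g) t := hsq
    have h2 := (h1.pow_left 4).eq
    have h3 : (g * g) ^ 4 = g := by
      rw [← pow_two, ← pow_mul]
      calc g ^ (2 * 4) = g ^ 7 * g := by rw [← pow_succ]
        _ = g := by rw [hg, one_mul]
    rw [h3] at h2
    exact h2
  have hg1 := h7 t g htt hft1 hg hgt
  rw [hg1, map_one] at hfg
  have h8 : y ^ 3 = 1 := e.symm.injective (by rw [← hfg, map_one])
  have h9 := orderOf_dvd_of_pow_eq_one h8
  rw [hyo] at h9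
  norm_num at h9

/-- counting fixed points -/
theorem modEq_of_act {A : Type*} [Group A] {r q k : ℕ} [hr : Fact r.Prime] [hq : Fact q.Prime] (hrq : r ≠ q)
    (hA : IsPGroup r A) (R : Type*) [Group R] [Finite R] (φ : A →* MulAut R) (hc : Nat.card R = q ^ k)
    (hne : ∃ a x, φ a x ≠ x) : ∃ j, 1 ≤ j ∧ j ≤ k ∧ r ∣ q ^ j - 1 := by
  let _ : MulAction A R := MulAction.compHom R φ
  have h1 : Nat.card R ≡ Nat.card (MulAction.fixedPoints A R) [MOD r] := hA.card_modEq_card_fixedPoints R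
  let P : Subgroup R :=
    { carrier := MulAction.fixedPoints A R
      one_mem' := fun a => (φ a).map_one
      mul_mem' := fun {x y} hx hy a => by
        show φ a (x * y) = x * y
        rw [map_mul, show φ a x = x from hx a, show φ a y = y from hy a]
      inv_mem' := fun {x} hx a => by
        show φ a x⁻¹ = x⁻¹
        rw [map_inv, show φ a x = x from hx a] }
  have h2 : Nat.card (MulAction.fixedPoints A R) = Nat.card ↥P := rfl
  obtain ⟨i, hi, hPi⟩ := (Nat.dvd_prime_pow hq.out).1 (hc ▸ Subgroup.card_subgroup_dvd_card P)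
  have hik : i ≠ k := by
    rintro rfl
    obtain ⟨a, x, hax⟩ := hne
    apply hax
    have h3 : P = ⊤ := Subgroup.eq_top_of_card_eq P (by rw [hPi, hc])
    have h4 : x ∈ P := by rw [h3]; trivial
    exact h4 a
  refine ⟨k - i, by omega, by omega, ?_⟩
  rw [h2, hPi, hc] at h1
  have h3 : r ∣ q ^ k - q ^ i := (Nat.modEq_iff_dvd' (Nat.pow_le_pow_right hq.out.pos hi)).1 h1.symm
  have h4 : q ^ k - q ^ i = q ^ i * (q ^ (k - i) - 1) := by
    rw [Nat.mul_sub, mul_one, ← pow_add, Nat.add_sub_cancel' hi]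
  rw [h4] at h3
  rcases hr.out.dvd_mul.1 h3 with h5 | h5
  · exact absurd ((Nat.prime_dvd_prime_iff_eq hr.out hq.out).1 (hr.out.dvd_of_dvd_pow h5)) hrq
  · exact h5

/-- **The prime divisors of `|N|`.** -/
theorem Hyp.prime (H : Hyp z f N F) (hK : Ker f) (hf : Function.Surjective f) (e : S ≃* Spor.Suz)
    (h7 : ∀ t g : ↥(centralizer ({z} : Set D)), t * t = 1 → f t ≠ 1 → g ^ 7 = 1 → g * t = t * g → g = 1)
    {q : ℕ} (hq : q.Prime) (hq3 : q ≠ 3) (hqN : q ∣ Nat.card ↥N) : ∃ k, q ^ k ∣ Nat.card ↥N ∧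
      ∀ r : ℕ, r.Prime → r ≠ q → r ∣ Nat.card Spor.Suz → ∃ j, 1 ≤ j ∧ j ≤ k ∧ r ∣ q ^ j - 1 := by
  have hN := H.nor
  have : Fact q.Prime := ⟨hq⟩
  have hfin : Finite Spor.Suz := CTwoTab.Suz.finSuz
  have hfS : Finite S := Finite.of_equiv _ e.symm.toEquiv
  have hSuz : IsSimpleGroup Spor.Suz := Cfsg.Agent.S1694.result.1
  have hS : IsSimpleGroup S := (MulEquiv.isSimpleGroup_congr e).2 hSuz
  obtain ⟨P⟩ : Nonempty (Sylow q ↥N) := inferInstance
  let R : Subgroup D := (P : Subgroup ↥N).map N.subtype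
  have hfrat : normalizer (R : Set D) ⊔ N = ⊤ := Sylow.normalizer_sup_eq_top P
  have hRN : R ≤ N := map_subtype_le _
  have hRq : IsPGroup q ↥R := P.isPGroup'.map _
  obtain ⟨k, hk⟩ := IsPGroup.iff_card.1 hRq
  have hkN : q ^ k ∣ Nat.card ↥N := by rw [← hk]; exact card_dvd_of_le hRN
  have hR1 : R ≠ ⊥ := by
    intro h
    have h1 : (P : Subgroup ↥N) = ⊥ := (Subgroup.map_eq_bot_iff_of_injective _ N.subtype_injective).1 h
    have h2 := P.dvd_card_of_dvd_card hqN
    rw [h1, card_bot] at h2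
    exact hq.one_lt.ne' (Nat.dvd_one.1 h2)
  refine ⟨k, hkN, fun r hr hrq hrS => ?_⟩
  have : Fact r.Prime := ⟨hr⟩
  -- `F` maps the normalizer onto `S`
  have hFn : (normalizer (R : Set D)).map F = ⊤ := by
    have h1 : (normalizer (R : Set D) ⊔ N).map F = ⊤ := by
      rw [hfrat, ← MonoidHom.range_eq_map, MonoidHom.range_eq_top]
      intro s
      obtain ⟨c, rfl⟩ := hf s
      exact ⟨c, H.Fc c⟩
    rw [Subgroup.map_sup] at h1
    have h2 : N.map F = ⊥ := by
      rw [eq_bot_iff]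
      rintro _ ⟨n, hn, rfl⟩
      exact H.FN n hn
    rwa [h2, sup_bot_eq] at h1
  have hFc : (centralizer (R : Set D)).map F = ⊥ := by
    have h1 : ((centralizer (R : Set D)).map F).Normal := by
      refine ⟨?_⟩
      rintro _ ⟨c, hc, rfl⟩ s
      obtain ⟨g, hg, rfl⟩ : s ∈ (normalizer (R : Set D)).map F := by rw [hFn]; trivial
      refine ⟨g * c * g⁻¹, ?_, by rw [map_mul, map_mul, map_inv]⟩
      rw [SetLike.mem_coe, mem_centralizer_iff]
      intro x hx
      have h2 : g⁻¹ * x * g ∈ R := by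
        have := (mem_normalizer_iff.1 (inv_mem hg) x).1 hx
        rwa [inv_inv] at this
      have h3 : (g⁻¹ * x * g) * c = c * (g⁻¹ * x * g) := mem_centralizer_iff.1 hc _ h2
      calc x * (g * c * g⁻¹) = g * ((g⁻¹ * x * g) * c) * g⁻¹ := by group
        _ = g * (c * (g⁻¹ * x * g)) * g⁻¹ := by rw [h3]
        _ = g * c * g⁻¹ * x := by group
    rcases h1.eq_bot_or_eq_top with h | h
    · exact h
    · exact absurd h (H.not_top hK e h7 hq3 hRq hRN hR1)
  -- an element of order `r`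
  obtain ⟨s, hs⟩ := exists_prime_orderOf_dvd_card' (G := S) r (by rw [Nat.card_congr e.toEquiv]; exact hrS)
  obtain ⟨g, hg, hgs⟩ : s ∈ (normalizer (R : Set D)).map F := by rw [hFn]; trivial
  obtain ⟨a, m, hm, hgo⟩ : ∃ a m : ℕ, ¬ r ∣ m ∧ orderOf g = r ^ a * m :=
    Nat.exists_eq_pow_mul_and_not_dvd (orderOf_pos g).ne' r hr.ne_one
  let g' : ↥(normalizer (R : Set D)) := ⟨g ^ m, pow_mem hg m⟩
  have hg' : g' ^ r ^ a = 1 := by
    apply Subtype.ext
    show (g ^ m) ^ r ^ a = 1
    rw [← pow_mul, mul_comm, ← hgo, pow_orderOf_eq_one]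
  have hA : IsPGroup r ↥(zpowers g') := by
    intro x
    obtain ⟨i, hi⟩ := x.2
    refine ⟨a, Subtype.ext ?_⟩
    show (x : ↥(normalizer (R : Set D))) ^ r ^ a = 1
    have hi' : g' ^ i = (x : ↥(normalizer (R : Set D))) := hi
    rw [← hi', ← zpow_natCast, ← zpow_mul, mul_comm, zpow_mul, zpow_natCast, hg', one_zpow]
  refine modEq_of_act hrq hA ↥R (R.normalizerMonoidHom.comp (zpowers g').subtype) hk ?_
  by_contra hcon
  push Not at hcon
  have h1 : g ^ m ∈ centralizer (R : Set D) := by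
    rw [mem_centralizer_iff]
    intro x hx
    have h2 := congrArg Subtype.val (hcon ⟨g', mem_zpowers g'⟩ ⟨x, hx⟩)
    have h3 : g ^ m * x * (g ^ m)⁻¹ = x := h2
    rw [mul_inv_eq_iff_eq_mul] at h3
    exact h3.symm
  have h2 : F (g ^ m) = 1 := by
    have : F (g ^ m) ∈ (centralizer (R : Set D)).map F := ⟨_, h1, rfl⟩
    rw [hFc] at this
    exact this
  rw [map_pow, hgs] at h2
  have h3 := orderOf_dvd_of_pow_eq_one h2
  rw [hs] at h3
  exact hm h3

theorem mem_primes {q : ℕ} (hq : q.Prime) (h : q ∣ 808017424794512875886459904961710757005754368000000000) :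
    q ∈ [2, 3, 5, 7, 11, 13, 17, 19, 23, 29, 31, 41, 47, 59, 71] := by
  have key : q ∣ 2 ^ 46 * 3 ^ 20 * 5 ^ 9 * 7 ^ 6 * 11 ^ 2 * 13 ^ 3 * 17 * 19 * 23 * 29 * 31 * 41 * 47 * 59 * 71 := by
    norm_num
    exact h
  have e : ∀ {p k : ℕ}, p.Prime → q ∣ p ^ k → q = p := fun hp hk =>
    (Nat.prime_dvd_prime_iff_eq hq hp).1 (hq.dvd_of_dvd_pow hk)
  have e1 : ∀ {p : ℕ}, p.Prime → q ∣ p → q = p := fun hp hk => (Nat.prime_dvd_prime_iff_eq hq hp).1 hk
  simp only [hq.dvd_mul] at key
  simp only [List.mem_cons, List.not_mem_nil, or_false]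
  rcases key with (((((((((((((h | h) | h) | h) | h) | h) | h) | h) | h) | h) | h) | h) | h) | h) | h
  · exact Or.inl (e (by norm_num) h)
  · have := e (by norm_num) h; tauto
  · have := e (by norm_num) h; (clear * - this; tauto)
  · have := e (by norm_num) h; (clear * - this; tauto)
  · have := e (by norm_num) h; (clear * - this; tauto)
  · have := e (by norm_num) h; (clear * - this; tauto)
  · have := e1 (by norm_num) h; (clear * - this; tauto)
  · have := e1 (by norm_num) h; (clear * - this; (solve | repeat (first | with_reducible assumption | exact Or.inl (by with_reducible assumption) | refine Or.inr ?_) | tauto))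
  · have := e1 (by norm_num) h; (clear * - this; (solve | repeat (first | with_reducible assumption | exact Or.inl (by with_reducible assumption) | refine Or.inr ?_) | tauto))
  · have := e1 (by norm_num) h; (clear * - this; (solve | repeat (first | with_reducible assumption | exact Or.inl (by with_reducible assumption) | refine Or.inr ?_) | tauto))
  · have := e1 (by norm_num) h; (clear * - this; (solve | repeat (first | with_reducible assumption | exact Or.inl (by with_reducible assumption) | refine Or.inr ?_) | tauto))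
  · have := e1 (by norm_num) h; (clear * - this; (solve | repeat (first | with_reducible assumption | exact Or.inl (by with_reducible assumption) | refine Or.inr ?_) | tauto))
  · have := e1 (by norm_num) h; (clear * - this; (solve | repeat (first | with_reducible assumption | exact Or.inl (by with_reducible assumption) | refine Or.inr ?_) | tauto))
  · have := e1 (by norm_num) h; (clear * - this; (solve | repeat (first | with_reducible assumption | exact Or.inl (by with_reducible assumption) | refine Or.inr ?_) | tauto))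
  · have := e1 (by norm_num) h; (clear * - this; (solve | repeat (first | with_reducible assumption | exact Or.inl (by with_reducible assumption) | refine Or.inr ?_) | tauto))

/-- the numbers -/
theorem num {q k : ℕ} (hq : q ∈ [7, 11, 13, 17, 19, 23, 29, 31, 41, 47, 59, 71])
    (hk : q ^ k * 448345497600 ∣ 808017424794512875886459904961710757005754368000000000)
    (h11 : q ≠ 11 → ∃ j, 1 ≤ j ∧ j ≤ k ∧ 11 ∣ q ^ j - 1) (h13 : q ≠ 13 → ∃ j, 1 ≤ j ∧ j ≤ k ∧ 13 ∣ q ^ j - 1) :
    False := by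
  have bd : ∀ b : ℕ, ¬ q ^ (b + 1) * 448345497600 ∣ 808017424794512875886459904961710757005754368000000000 → k ≤ b := by
    intro b hb
    by_contra hcon
    exact hb ((Nat.mul_dvd_mul_right (pow_dvd_pow q (by omega : b + 1 ≤ k)) _).trans hk)
  simp only [List.mem_cons, List.not_mem_nil, or_false] at hq
  rcases hq with rfl | rfl | rfl | rfl | rfl | rfl | rfl | rfl | rfl | rfl | rfl | rfl
  · have h1 := bd 5 (by norm_num)
    obtain ⟨j, h2, h3, h4⟩ := h11 (by norm_num)
    have h5 : j ≤ 5 := h3.trans h1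
    interval_cases j <;> norm_num at h4
  · have h1 := bd 1 (by norm_num)
    obtain ⟨j, h2, h3, h4⟩ := h13 (by norm_num)
    have h5 : j ≤ 1 := h3.trans h1
    interval_cases j; norm_num at h4
  · have h1 := bd 2 (by norm_num)
    obtain ⟨j, h2, h3, h4⟩ := h11 (by norm_num)
    have h5 : j ≤ 2 := h3.trans h1
    interval_cases j <;> norm_num at h4
  · have h1 := bd 1 (by norm_num)
    obtain ⟨j, h2, h3, h4⟩ := h11 (by norm_num)
    have h5 : j ≤ 1 := h3.trans h1
    interval_cases j; norm_num at h4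
  · have h1 := bd 1 (by norm_num)
    obtain ⟨j, h2, h3, h4⟩ := h11 (by norm_num)
    have h5 : j ≤ 1 := h3.trans h1
    interval_cases j; norm_num at h4
  · have h1 := bd 1 (by norm_num)
    obtain ⟨j, h2, h3, h4⟩ := h13 (by norm_num)
    have h5 : j ≤ 1 := h3.trans h1
    interval_cases j; norm_num at h4
  · have h1 := bd 1 (by norm_num)
    obtain ⟨j, h2, h3, h4⟩ := h11 (by norm_num)
    have h5 : j ≤ 1 := h3.trans h1
    interval_cases j; norm_num at h4
  · have h1 := bd 1 (by norm_num)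
    obtain ⟨j, h2, h3, h4⟩ := h11 (by norm_num)
    have h5 : j ≤ 1 := h3.trans h1
    interval_cases j; norm_num at h4
  · have h1 := bd 1 (by norm_num)
    obtain ⟨j, h2, h3, h4⟩ := h11 (by norm_num)
    have h5 : j ≤ 1 := h3.trans h1
    interval_cases j; norm_num at h4
  · have h1 := bd 1 (by norm_num)
    obtain ⟨j, h2, h3, h4⟩ := h11 (by norm_num)
    have h5 : j ≤ 1 := h3.trans h1
    interval_cases j; norm_num at h4
  · have h1 := bd 1 (by norm_num)
    obtain ⟨j, h2, h3, h4⟩ := h11 (by norm_num)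
    have h5 : j ≤ 1 := h3.trans h1
    interval_cases j; norm_num at h4
  · have h1 := bd 1 (by norm_num)
    obtain ⟨j, h2, h3, h4⟩ := h11 (by norm_num)
    have h5 : j ≤ 1 := h3.trans h1
    interval_cases j; norm_num at h4

/-- **`|N|` is a `{3, 5}`-number.** -/
theorem Hyp.primes (H : Hyp z f N F) (hK : Ker f) (hf : Function.Surjective f) (e : S ≃* Spor.Suz)
    (h7 : ∀ t g : ↥(centralizer ({z} : Set D)), t * t = 1 → f t ≠ 1 → g ^ 7 = 1 → g * t = t * g → g = 1)
    (hD : Nat.card D ∣ 808017424794512875886459904961710757005754368000000000) {q : ℕ} (hq : q.Prime)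
    (hqN : q ∣ Nat.card ↥N) : q = 3 ∨ q = 5 := by
  by_contra hcon
  push Not at hcon
  have hSuz : Nat.card Spor.Suz = 448345497600 := Cfsg.Agent.S1694.result.2
  have h1 : Nat.card ↥N * 448345497600 ∣ Nat.card D := by
    have h2 : Function.Surjective F := fun s => by
      obtain ⟨c, rfl⟩ := hf s
      exact ⟨c, H.Fc c⟩
    rw [← F.ker.card_mul_index, Subgroup.index_ker, MonoidHom.range_eq_top.2 h2, card_top,
      Nat.card_congr e.toEquiv, hSuz]
    exact Nat.mul_dvd_mul_right (card_dvd_of_le fun n hn => H.FN n hn) _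
  obtain ⟨k, hk, hr⟩ := H.prime hK hf e h7 hq hcon.1 hqN
  have hmem := mem_primes hq (hqN.trans ((Dvd.intro _ rfl).trans (h1.trans hD)))
  have hq2 : q ≠ 2 := by
    rintro rfl
    exact (Nat.not_even_iff_odd.2 H.odd) (even_iff_two_dvd.2 hqN)
  refine num (q := q) (k := k) ?_ ((Nat.mul_dvd_mul_right hk _).trans (h1.trans hD)) (fun h => hr 11 (by norm_num) h.symm ?_)
    (fun h => hr 13 (by norm_num) h.symm ?_)
  · simp only [List.mem_cons, List.not_mem_nil, or_false] at hmem ⊢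
    (clear * - hcon hq2 hmem; (solve | (intros; casesm* _ ∨ _, _ ∧ _) <;> (first | with_reducible contradiction | simp only [*, true_or, or_true, and_self, true_and, and_true, not_false_eq_true]) | tauto))
  · rw [hSuz]; norm_num
  · rw [hSuz]; norm_num

/-- the order of the centralizer of an element, transport -/
theorem card_cent_equiv {A B : Type*} [Group A] [Group B] (e : A ≃* B) (a : A) :
    Nat.card ↥(centralizer ({a} : Set A)) = Nat.card ↥(centralizer ({e a} : Set B)) :=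
  Cfsg.Agent.LThreeB.card_centralizer_congr e a

/-- the image of `C(t)` in `C(z0) / O_2` -/
theorem dvd_image (f : ↥(centralizer ({z} : Set D)) →* S) (hf : Function.Surjective f) (hK : Ker f) (hz2 : z * z = 1)
    (e : S ≃* Spor.Suz) {t : ↥(centralizer ({z} : Set D))} (htt : t * t = 1) (hc : e (f t) = SuzThree.CentA.z0) :
    25920 ∣ Nat.card ↥((centralizer ({t} : Set ↥(centralizer ({z} : Set D)))).map f) := by
  have hfin : Finite Spor.Suz := CTwoTab.Suz.finSuz
  have hfS : Finite S := Finite.of_equiv _ e.symm.toEquiv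
  have hsur := G1_surj f hf hK hz2 e htt hc
  rw [← card_map_of_injective (f := e.toMonoidHom) e.injective]
  generalize hB : ((centralizer ({t} : Set ↥(centralizer ({z} : Set D)))).map f).map e.toMonoidHom = B
  have hle : B ≤ SuzThree.CentA.C1 := by
    rw [← hB]
    rintro _ ⟨_, ⟨g, hg, rfl⟩, rfl⟩
    rw [SuzThree.CentA.mem_C1, ← hc]
    show e (f g) * e (f t) = e (f t) * e (f g)
    rw [← map_mul, ← map_mul, ← map_mul, ← map_mul, mem_centralizer_singleton_iff.1 hg]
  have hmem : ∀ g : ↥(centralizer ({t} : Set ↥(centralizer ({z} : Set D)))), e (f g) ∈ B := fun g => by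
    rw [← hB]
    exact ⟨f g, ⟨g, g.2, rfl⟩, rfl⟩
  let κ : ↥B → LThreeBX.SuzQ.SU := fun b => QuotientGroup.mk (⟨(b : Spor.Suz), hle b.2⟩ : ↥SuzThree.CentA.C1)
  let κ' : ↥B →* LThreeBX.SuzQ.SU := MonoidHom.mk' κ (fun _ _ => rfl)
  have h1 : Function.Surjective κ' := by
    intro s
    obtain ⟨g, rfl⟩ := hsur s
    exact ⟨⟨e (f g), hmem g⟩, rfl⟩
  rw [← LThreeBX.SuzQ.card_SU]
  exact Subgroup.card_dvd_of_surjective κ' h1

/-- **The centralizer of an involution commuting with `z`.** -/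
theorem Hyp.card_cent (H : Hyp z f N F) (hK : Ker f) (hf : Function.Surjective f) (e : S ≃* Spor.Suz)
    (h7 : ∀ t g : ↥(centralizer ({z} : Set D)), t * t = 1 → f t ≠ 1 → g ^ 7 = 1 → g * t = t * g → g = 1)
    (hD : Nat.card D ∣ 808017424794512875886459904961710757005754368000000000)
    {t : ↥(centralizer ({z} : Set D))} (htt : t * t = 1) (ht1 : f t ≠ 1)
    (hT : Nat.card ↥(centralizer ({(t : D)} : Set D)) ∣ 8309562962452852382355161088000000) :
    Nat.card ↥(centralizer ({(t : D)} : Set D)) ≤ 408146688000000 := by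
  have hN := H.nor
  have hfin : Finite Spor.Suz := CTwoTab.Suz.finSuz
  have hfS : Finite S := Finite.of_equiv _ e.symm.toEquiv
  -- the class of `f t`
  obtain ⟨e', he'⟩ : ∃ e' : S ≃* Spor.Suz, e' (f t) = SuzThree.CentA.z0 := by
    rcases CTwoTab.Suz.classes (t := e (f t)) (by rw [← map_mul, ← map_mul, htt, map_one, map_one])
      (fun h => ht1 (e.injective (by rw [h, map_one]))) with h | h
    · obtain ⟨c, hc⟩ := isConj_iff.1 h
      refine ⟨e.trans (MulAut.conj c⁻¹), ?_⟩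
      show c⁻¹ * e (f t) * c⁻¹⁻¹ = _
      rw [← hc]
      group
    · exact (not_e0 f hf hK H.zz e htt (fun g hg hgt => h7 t g htt ht1 hg hgt) h).elim
  have hcS : Nat.card ↥(centralizer ({f t} : Set S)) = 3317760 := by
    rw [card_cent_equiv e', he']
    exact KFacts.SuzCent.card_C1
  set T := centralizer ({(t : D)} : Set D) with hTdef
  let ψ : ↥T →* S := F.comp T.subtype
  have hcard : Nat.card ↥T = Nat.card ↥ψ.ker * Nat.card ↥ψ.range := by
    rw [← ψ.ker.card_mul_index, Subgroup.index_ker]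
  have hran : Nat.card ↥ψ.range ≤ 3317760 := by
    rw [← hcS]
    refine card_le_of_le ?_
    rintro _ ⟨d, rfl⟩
    rw [mem_centralizer_singleton_iff, ← H.Fc]
    show F d * F t = F t * F d
    rw [← map_mul, ← map_mul, mem_centralizer_singleton_iff.1 d.2]
  have hzT : z ∈ T := mem_centralizer_singleton_iff.2 (mem_centralizer_singleton_iff.1 t.2).symm
  have hker : Nat.card ↥ψ.ker ≤ Nat.card ↥(N ⊓ T) * 2 := by
    classical
    have h1 : Nat.card (↥(N ⊓ T) × Bool) = Nat.card ↥(N ⊓ T) * 2 := by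
      rw [Nat.card_prod, Nat.card_eq_fintype_card (α := Bool), Fintype.card_bool]
    rw [← h1]
    have hF : ∀ d : ↥ψ.ker, F ((d : ↥T) : D) = 1 := fun d => d.2
    refine Nat.card_le_card_of_injective (fun d : ↥ψ.ker =>
      if h : ((d : ↥T) : D) ∈ N then (⟨((d : ↥T) : D), mem_inf.2 ⟨h, (d : ↥T).2⟩⟩, false)
      else (⟨((d : ↥T) : D) * z, mem_inf.2 ⟨by
        rcases H.of_F (hF d) with h1 | ⟨n, hn, h1⟩
        · exact absurd h1 h
        · rw [h1, mul_assoc, H.zz, mul_one]; exact hn, mul_mem (d : ↥T).2 hzT⟩⟩, true)) ?_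
    intro a b hab
    dsimp only at hab
    by_cases ha : ((a : ↥T) : D) ∈ N <;> by_cases hb : ((b : ↥T) : D) ∈ N
    · rw [dif_pos ha, dif_pos hb] at hab
      have h2 := congrArg (fun x => ((x.1 : ↥(N ⊓ T)) : D)) hab
      exact Subtype.ext (Subtype.ext h2)
    · rw [dif_pos ha, dif_neg hb] at hab
      have h2 := congrArg (fun x => x.2) hab
      simp at h2
    · rw [dif_neg ha, dif_pos hb] at hab
      have h2 := congrArg (fun x => x.2) hab
      simp at h2
    · rw [dif_neg ha, dif_neg hb] at hab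
      have h2 := congrArg (fun x => ((x.1 : ↥(N ⊓ T)) : D)) hab
      exact Subtype.ext (Subtype.ext (mul_right_cancel h2))
  -- divisibility
  have hd1 : Nat.card ↥(N ⊓ T) ∣ Nat.card ↥ψ.ker := by
    let j : ↥(N ⊓ T) →* ↥ψ.ker := (Subgroup.inclusion (inf_le_right : N ⊓ T ≤ T)).codRestrict ψ.ker (fun x =>
      H.FN _ (mem_inf.1 x.2).1)
    have hj : Function.Injective j := by
      intro a b hab
      have h1 : ((a : ↥(N ⊓ T)) : D) = b := congrArg (fun x : ↥ψ.ker => ((x : ↥T) : D)) hab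
      exact Subtype.ext h1
    exact Subgroup.card_dvd_of_injective j hj
  have hd2 : 25920 ∣ Nat.card ↥ψ.range := by
    refine (dvd_image f hf hK H.zz e' htt he').trans (card_dvd_of_le ?_)
    rintro _ ⟨g, hg, rfl⟩
    exact ⟨⟨(g : D), mem_centralizer_singleton_iff.2 (congrArg Subtype.val (mem_centralizer_singleton_iff.1 hg))⟩, H.Fc g⟩
  have hd3 : Nat.card ↥(N ⊓ T) * 25920 ∣ 8309562962452852382355161088000000 := by
    refine (Nat.mul_dvd_mul hd1 hd2).trans ?_
    rw [← hcard]; exact hT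
  have hn : Nat.card ↥(N ⊓ T) ∣ 61509375 := by
    have h1 : Nat.card ↥(N ⊓ T) ∣ 61509375 * 5211969571067376173056 := by
      refine Nat.dvd_of_mul_dvd_mul_right (k := 25920) (by norm_num) (hd3.trans ?_)
      norm_num
    refine Nat.Coprime.dvd_of_dvd_mul_right ?_ h1
    rw [Nat.coprime_iff_gcd_eq_one]
    by_contra hne
    obtain ⟨p, hp, hpd⟩ := Nat.exists_prime_and_dvd hne
    have h2 := hpd.trans (Nat.gcd_dvd_left _ _)
    have h3 := hpd.trans (Nat.gcd_dvd_right _ _)
    rcases H.primes hK hf e h7 hD hp (h2.trans (card_dvd_of_le inf_le_left)) with rfl | rfl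
    · norm_num at h3
    · norm_num at h3
  have hle : Nat.card ↥(N ⊓ T) ≤ 61509375 := Nat.le_of_dvd (by norm_num) hn
  rw [hcard]
  calc Nat.card ↥ψ.ker * Nat.card ↥ψ.range ≤ (Nat.card ↥(N ⊓ T) * 2) * 3317760 := Nat.mul_le_mul hker hran
    _ ≤ (61509375 * 2) * 3317760 := by gcongr
    _ = 408146688000000 := by norm_num

end Cfsg.Agent.H740.OreM.Abs
end

-- part: H740/OreM/Three
section
/-!
# S2443, row M, piece MP3: `|C(x) ∩ C(t)|` for `x` of order 3 and `t` of type `2A` (helper740)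

`card_three : |C(x) ∩ C(t)| ≤ 3 * 258247006617600`.
-/

set_option autoImplicit false
set_option maxRecDepth 100000

namespace Cfsg.Agent.H740.OreM

open Subgroup Cfsg Cfsg.Agent.LThreeMB Cfsg.Agent.LThreeB
open Cfsg.Agent.MonsterX Cfsg.Agent.MonsterX.InstData Cfsg.Agent.MonsterP Cfsg.Agent.MonsterU Cfsg.Agent.MonsterU.Ch
open Cfsg.Agent.MonsterU.Lam2 (L2)
open Cfsg.Agent.MonsterN
open Cfsg.Spor (Co1)
open Cfsg.Agent.BpSpor.MBigModel (MG zz pi chart cls card_M card_cent_z card_cent_t)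

universe u

/-! ### Passing to `C(x) / ⟨x⟩` -/

theorem card_XT_le {G : Type u} [Group G] [Finite G] {x t : G} (hx : orderOf x = 3) (ht : orderOf t = 2)
    (htx : t * x = x * t) {n : ℕ} (h : ∀ v : XX x, orderOf v = 2 → Nat.card ↥(centralizer ({v} : Set (XX x))) ≤ n) :
    Nat.card ↥(XT x t) ≤ 3 * n := by
  let φ : ↥(XT x t) →* XX x := (QuotientGroup.mk' (Zx x)).comp (Subgroup.inclusion inf_le_left)
  have hcard : Nat.card ↥(XT x t) = Nat.card ↥φ.ker * Nat.card ↥φ.range := by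
    rw [← φ.ker.card_mul_index, Subgroup.index_ker]
  let t' : ↥(XT x t) := ⟨t, mem_XT.2 ⟨htx, rfl⟩⟩
  have ht2 : (φ t') ^ 2 = 1 := by
    rw [← map_pow]
    have : t' ^ 2 = 1 := Subtype.ext (by show t ^ 2 = 1; rw [← ht, pow_orderOf_eq_one])
    rw [this, map_one]
  have ht1 : φ t' ≠ 1 := by
    intro h1
    have h2 : _root_.Cfsg.Agent.LThreeMB.mk x htx = 1 := h1
    obtain ⟨i, hi⟩ := (_root_.Cfsg.Agent.LThreeMB.mk_eq_one htx).1 h2
    have h3 : t ^ 3 = 1 := by
      rw [← hi, ← zpow_natCast, ← zpow_mul, mul_comm, zpow_mul, zpow_natCast, ← hx, pow_orderOf_eq_one, one_zpow]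
    have h4 := orderOf_dvd_of_pow_eq_one h3
    rw [ht] at h4
    norm_num at h4
  have hto : orderOf (φ t') = 2 := orderOf_eq_prime ht2 ht1
  have h1 : Nat.card ↥φ.range ≤ n := by
    refine (card_le_of_le ?_).trans (h (φ t') hto)
    rintro _ ⟨d, rfl⟩
    rw [mem_centralizer_singleton_iff, ← map_mul, ← map_mul]
    congr 1
    exact Subtype.ext (mem_XT.1 d.2).2
  have h2 : Nat.card ↥φ.ker ≤ 3 := by
    rw [← card_Zx hx]
    let j : ↥φ.ker →* ↥(Zx x) := ((Subgroup.inclusion inf_le_left).comp φ.ker.subtype).codRestrict (Zx x) (fun k =>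
      (QuotientGroup.eq_one_iff _).1 k.2)
    refine Nat.card_le_card_of_injective j ?_
    intro a b hab
    have h3 := congrArg (fun k : ↥(Zx x) => ((k : ↥(centralizer ({x} : Set G))) : G)) hab
    exact Subtype.ext (Subtype.ext h3)
  rw [hcard]
  exact Nat.mul_le_mul h2 h1

/-! ### `Fi24'` -/

open Cfsg.Spor Cfsg.Agent.R08 in
/-- the centralizer of a product of two commuting transpositions -/
theorem card_pair {a b : Fi24} (P : TetFi24A.At a b) {t : Spor.Fi24'} (ht : (t : Fi24) = a * b) :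
    Nat.card (centralizer ({t} : Set Spor.Fi24')) ≤ 258247006617600 := by
  have hN : Nat.card (CTwoTab.FiTF.N a b) = 2 * 64561751654400 := by
    rw [Nat.card_congr (CTwoTab.FiTF.eN a b).toEquiv, OddHalf.D4.Spor.FiTF.card_Cab P]
  have hle := CTwoTab.FiTF.N_le ht
  have hmem : ∀ x : Spor.Fi24', (x : Fi24) * a * (x : Fi24)⁻¹ = a ∧ (x : Fi24) * b * (x : Fi24)⁻¹ = b →
      x ∈ CTwoTab.FiTF.N a b := by
    intro x hx
    rw [CTwoTab.FiTF.mem_N, FiTwentyFour.mem_Cab]
    exact ⟨FiTwentyFour.mem_commutator_iff.1 x.2, mul_inv_eq_iff_eq_mul.1 hx.1, mul_inv_eq_iff_eq_mul.1 hx.2⟩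
  have h1 : (CTwoTab.FiTF.N a b).relIndex (centralizer ({t} : Set Spor.Fi24')) ≤ 2 := by
    by_cases hall : centralizer ({t} : Set Spor.Fi24') ≤ CTwoTab.FiTF.N a b
    · rw [Subgroup.relIndex_eq_one.2 hall]; norm_num
    · obtain ⟨s, hs, hsN⟩ := SetLike.not_le_iff_exists.1 hall
      refine (Subgroup.relIndex_eq_two_iff.2 ⟨s, hs, fun x hx => ?_⟩).le
      have key : ∀ y ∈ centralizer ({t} : Set Spor.Fi24'), y ∉ CTwoTab.FiTF.N a b →
          (y : Fi24) * a * (y : Fi24)⁻¹ = b ∧ (y : Fi24) * b * (y : Fi24)⁻¹ = a := by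
        intro y hy hyN
        rcases CTwoTab.FiTF.fix_or_swap P ht hy with h2 | h2
        · exact absurd (hmem y h2) hyN
        · exact h2
      by_cases hxN : x ∈ CTwoTab.FiTF.N a b
      · right
        refine ⟨hxN, fun h2 => hsN ?_⟩
        have := mul_mem (inv_mem hxN) h2
        rwa [inv_mul_cancel_left] at this
      · left
        refine ⟨hmem _ ?_, hxN⟩
        obtain ⟨h3, h4⟩ := key s hs hsN
        obtain ⟨h5, h6⟩ := key x hx hxN
        constructor
        · show ((x : Fi24) * (s : Fi24)) * a * ((x : Fi24) * (s : Fi24))⁻¹ = a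
          calc ((x : Fi24) * (s : Fi24)) * a * ((x : Fi24) * (s : Fi24))⁻¹
              = (x : Fi24) * ((s : Fi24) * a * (s : Fi24)⁻¹) * (x : Fi24)⁻¹ := by group
            _ = a := by rw [h3, h6]
        · show ((x : Fi24) * (s : Fi24)) * b * ((x : Fi24) * (s : Fi24))⁻¹ = b
          calc ((x : Fi24) * (s : Fi24)) * b * ((x : Fi24) * (s : Fi24))⁻¹
              = (x : Fi24) * ((s : Fi24) * b * (s : Fi24)⁻¹) * (x : Fi24)⁻¹ := by group
            _ = b := by rw [h4, h5]
  have h2 := Subgroup.card_mul_index ((CTwoTab.FiTF.N a b).subgroupOf (centralizer ({t} : Set Spor.Fi24')))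
  rw [Nat.card_congr (Subgroup.subgroupOfEquivOfLe hle).toEquiv, hN] at h2
  rw [← h2]
  calc _ ≤ (2 * 64561751654400) * 2 := Nat.mul_le_mul_left _ h1
    _ = 258247006617600 := by norm_num

theorem card_fi24 {X : Type u} [Group X] (h : Spor.IsoFi24' X) {t : X} (ht : orderOf t = 2) :
    Nat.card ↥(centralizer ({t} : Set X)) ≤ 258247006617600 := by
  obtain ⟨e⟩ := h
  rw [card_centralizer_congr e]
  rcases CTwoTab.FiTF.classes (e t) (by rw [MulEquiv.orderOf_eq, ht]) with ⟨a, b, P, h1⟩ | ⟨g, hg⟩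
  · exact card_pair P h1
  · rw [hg, BpSpor.card_cent_of_conj (rfl : g * CTwoTab.FiTF.z0 * g⁻¹ = _), H701.card_z0]
    norm_num

theorem card_th {X : Type u} [Group X] (h : Spor.IsoTh X) {t : X} (ht : orderOf t = 2) :
    Nat.card ↥(centralizer ({t} : Set X)) ≤ 258247006617600 := by
  obtain ⟨e⟩ := h
  rw [card_centralizer_congr e, ThOneClass.card_centralizer (by rw [MulEquiv.orderOf_eq, ht])]
  norm_num

/-! ### The third class -/

theorem inputs : CoOne := Cfsg.Agent.LThreeMB.CoOneFin.coOne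

theorem trNe : TrNe zz _root_.Cfsg.Agent.BpSpor.MBigModel.pi := KPair.trNe KDone.lft LThreeB.Row.cent (LThreeMBTr.traceNe KDone.lft LThreeMBTr.TensK.tens)

theorem hasPair : HasPair zz _root_.Cfsg.Agent.BpSpor.MBigModel.pi := KPair.hasPair KDone.lft LThreeB.Row.cent LThreeB.Row.second COct.octPair

/-- `z` is not of type `2A` -/
theorem ne_zz {t g : MG} (ht : LThreeB.Row.TA t) : g * t * g⁻¹ ≠ zz := by
  intro h
  have h1 := card_cent_z
  have h2 := card_cent_t ht
  have h3 := BpSpor.card_cent_of_conj h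
  have h4 := h2.symm.trans (h3.symm.trans h1)
  revert h4
  norm_num

/-- **Fixed rank 0.** -/
theorem zero {x : centralizer ({zz} : Set MG)} (hx : orderOf x = 3) (hfr : fr (_root_.Cfsg.Agent.BpSpor.MBigModel.pi x) = 1) {t : MG}
    (ht : LThreeB.Row.TA t) (hxt : (x : MG) * t = t * x) : Nat.card ↥(XT (x : MG) t) ≤ 408146688000000 := by
  have hfin : Finite MG := BpSpor.MBigModel.finite
  have hx3 : x ^ 3 = 1 := by rw [← hx, pow_orderOf_eq_one]
  obtain ⟨e⟩ := inputs.suz _ (orderOf_pi chart hx) hfr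
  have hiso : ∀ d : ↥(centralizer ({(x : MG)} : Set MG)), (d * zD x * d⁻¹) * zD x = zD x * (d * zD x * d⁻¹) →
      d * zD x * d⁻¹ = zD x := fun d hd =>
    Subtype.ext (isolated chart trNe hx hfr d (mem_centralizer_singleton_iff.1 d.2) (congrArg Subtype.val hd))
  have hzo : orderOf (zD x) = 2 := by
    rw [← Subgroup.orderOf_coe]
    exact LargeExtra.Base.orderOf_z chart.large
  have hK : LThreeBX.Abs.Ker (toXX _root_.Cfsg.Agent.BpSpor.MBigModel.pi x) := LThreeBX.Main.ker chart hx3 hfr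
  have hf := toXX_surj chart hx3
  have hS : IsSimpleGroup (XX (_root_.Cfsg.Agent.BpSpor.MBigModel.pi x)) := (MulEquiv.isSimpleGroup_congr e).2 Cfsg.Agent.S1694.result.1
  have hev : Even (Nat.card (XX (_root_.Cfsg.Agent.BpSpor.MBigModel.pi x))) := by
    rw [Nat.card_congr e.toEquiv, Cfsg.Agent.S1694.result.2]
    norm_num
  have hzz : zz * zz = (1 : MG) := BpSpor.MBigModel.zz_sq
  obtain ⟨N, F, H⟩ := Abs.exists_hyp hzo hiso hev (toXX _root_.Cfsg.Agent.BpSpor.MBigModel.pi x) hf (Zx (x : MG)) (Zx_le_center _) (by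
    rw [card_Zx (by rw [Subgroup.orderOf_coe, hx])]; decide) (fun k hk => by
      obtain ⟨i, hi | hi⟩ := LThreeBX.Main.ker_form chart hx3 hfr hk
      · left
        exact ⟨i, Subtype.ext hi.symm⟩
      · right
        refine ⟨i, Subtype.ext ?_⟩
        show (x : MG) ^ i = ((k : ↥(centralizer ({(x : MG)} : Set MG))) : MG) * zz
        rw [hi, mul_assoc, hzz, mul_one])
  have h7 : ∀ t g : ↥(centralizer ({zD x} : Set ↥(centralizer ({(x : MG)} : Set MG)))), t * t = 1 →
      toXX _root_.Cfsg.Agent.BpSpor.MBigModel.pi x t ≠ 1 → g ^ 7 = 1 → g * t = t * g → g = 1 := by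
    intro t g htt ht1 hg hgt
    have hmem : ∀ k : ↥(centralizer ({zD x} : Set ↥(centralizer ({(x : MG)} : Set MG)))),
        ((k : ↥(centralizer ({(x : MG)} : Set MG))) : MG) ∈ centralizer ({zz} : Set MG) := fun k =>
      mem_centralizer_singleton_iff.2 (congrArg Subtype.val (mem_centralizer_singleton_iff.1 k.2))
    have h1 : (⟨_, hmem g⟩ : centralizer ({zz} : Set MG)) = 1 := by
      refine LThreeBX.NoSeven.no_seven KDone.lft LThreeB.Row.cent hx3 hfr (t := ⟨_, hmem t⟩) (g := ⟨_, hmem g⟩)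
        ?_ ?_ ?_ ?_ ?_ ?_
      · exact Subtype.ext (congrArg (fun g : ↥(centralizer ({zD x} : Set ↥(centralizer ({(x : MG)} : Set MG)))) =>
          ((g : ↥(centralizer ({(x : MG)} : Set MG))) : MG)) htt)
      · intro h2
        apply ht1
        refine (QuotientGroup.eq_one_iff _).2 ?_
        have h3 : be _root_.Cfsg.Agent.BpSpor.MBigModel.pi x (toCC x t) = 1 := Subtype.ext h2
        show be _root_.Cfsg.Agent.BpSpor.MBigModel.pi x (toCC x t) ∈ Zx (_root_.Cfsg.Agent.BpSpor.MBigModel.pi x)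
        rw [h3]
        exact Subgroup.one_mem _
      · exact Subtype.ext (congrArg (fun g : ↥(centralizer ({zD x} : Set ↥(centralizer ({(x : MG)} : Set MG)))) =>
          ((g : ↥(centralizer ({(x : MG)} : Set MG))) : MG)) hg)
      · exact Subtype.ext (mem_centralizer_singleton_iff.1 t.1.2).symm
      · exact Subtype.ext (congrArg (fun g : ↥(centralizer ({zD x} : Set ↥(centralizer ({(x : MG)} : Set MG)))) =>
          ((g : ↥(centralizer ({(x : MG)} : Set MG))) : MG)) hgt)
      · exact Subtype.ext (mem_centralizer_singleton_iff.1 g.1.2).symm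
    exact Subtype.ext (Subtype.ext (congrArg (fun q : centralizer ({zz} : Set MG) => (q : MG)) h1))
  -- `t` in `C(z)`
  let t₀ : ↥(centralizer ({(x : MG)} : Set MG)) := ⟨t, mem_centralizer_singleton_iff.2 hxt.symm⟩
  have hto : orderOf t₀ = 2 := by
    rw [← Subgroup.orderOf_coe]
    exact LThreeB.Final.orderOf_of_TA ht
  obtain ⟨d, hd⟩ := LThreeBX.Abs.exists_conj_comm hzo hiso hto
  let t₁ : ↥(centralizer ({zD x} : Set ↥(centralizer ({(x : MG)} : Set MG)))) :=
    ⟨d * t₀ * d⁻¹, mem_centralizer_singleton_iff.2 hd⟩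
  have htt₀ : t₀ * t₀ = 1 := by rw [← pow_two, ← hto, pow_orderOf_eq_one]
  have htt : t₁ * t₁ = 1 := Subtype.ext (by
    show d * t₀ * d⁻¹ * (d * t₀ * d⁻¹) = 1
    calc d * t₀ * d⁻¹ * (d * t₀ * d⁻¹) = d * (t₀ * t₀) * d⁻¹ := by group
      _ = 1 := by rw [htt₀]; group)
  have ht1 : toXX _root_.Cfsg.Agent.BpSpor.MBigModel.pi x t₁ ≠ 1 := by
    intro h
    rcases hK.two _ h htt with h1 | h1
    · have h2 : d * t₀ * d⁻¹ = 1 := congrArg Subtype.val h1
      have h3 : t₀ = 1 := by
        calc t₀ = d⁻¹ * (d * t₀ * d⁻¹) * d := by group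
          _ = 1 := by rw [h2]; group
      rw [h3, orderOf_one] at hto
      norm_num at hto
    · have h2 : d * t₀ * d⁻¹ = zD x := congrArg Subtype.val h1
      exact ne_zz (g := (d : MG)) ht (congrArg Subtype.val h2)
  have hD : Nat.card ↥(centralizer ({(x : MG)} : Set MG)) ∣ 808017424794512875886459904961710757005754368000000000 := by
    rw [← card_M]
    exact Subgroup.card_subgroup_dvd_card _
  have hXT : Nat.card ↥(centralizer ({d * t₀ * d⁻¹} : Set ↥(centralizer ({(x : MG)} : Set MG)))) =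
      Nat.card ↥(XT (x : MG) t) := by
    rw [BpSpor.card_cent_of_conj (rfl : d * t₀ * d⁻¹ = _)]
    exact Nat.card_congr (centXT' t₀).toEquiv
  rw [← hXT]
  refine H.card_cent hK hf e h7 hD (t := t₁) htt ht1 ?_
  show Nat.card ↥(centralizer ({d * t₀ * d⁻¹} : Set ↥(centralizer ({(x : MG)} : Set MG)))) ∣ _
  rw [hXT]
  have h8 : Nat.card ↥(XT (x : MG) t) ∣ Nat.card ↥(centralizer ({t} : Set MG)) := card_dvd_of_le inf_le_right
  rw [card_cent_t ht] at h8
  exact h8.trans (by norm_num)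

/-! ### All elements of order 3 -/

theorem card_XT_conj {G : Type u} [Group G] {x t g x' t' : G} (hx : g * x * g⁻¹ = x') (ht : g * t * g⁻¹ = t') :
    Nat.card ↥(XT x t) = Nat.card ↥(XT x' t') := by
  subst hx
  subst ht
  exact Nat.card_congr (conjXT g x t).toEquiv

theorem in_z {x : centralizer ({zz} : Set MG)} (hx : orderOf x = 3) {t : MG}
    (ht : LThreeB.Row.TA t) (hxt : (x : MG) * t = t * x) : Nat.card ↥(XT (x : MG) t) ≤ 774741019852800 := by
  have hfin : Finite MG := BpSpor.MBigModel.finite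
  have hs : IsSimpleGroup MG := BpSpor.MBigModel.simple
  have hto := LThreeB.Final.orderOf_of_TA ht
  have hxo : orderOf (x : MG) = 3 := by rw [Subgroup.orderOf_coe, hx]
  rcases inputs.ranks (_root_.Cfsg.Agent.BpSpor.MBigModel.pi x) (orderOf_pi chart hx) with h1 | h1 | h1 | h1
  · exact (zero hx h1 ht hxt).trans (by norm_num)
  · obtain ⟨x₀, u, g, hx₀, hfr₀, huz, hux, hne, hg⟩ := hasPair
    obtain ⟨k, hk⟩ := conj_six chart trNe inputs.ranks inputs.six
      (fun x hx h2 => ⟨(good_of_inputs chart inputs hx h2 : _root_.Cfsg.Agent.LThreeMB.Good.{0} _).simple,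
        (good_of_inputs chart inputs hx h2 : _root_.Cfsg.Agent.LThreeMB.Good.{0} _).nc⟩) hx₀ hfr₀ huz hux hne hg hx h1
    have h2 : (x₀ : MG) * (k * t * k⁻¹) = (k * t * k⁻¹) * x₀ := by
      rw [← hk]
      exact conj_comm' hxt
    rw [card_XT_conj hk (rfl : k * t * k⁻¹ = _)]
    exact (zero hx₀ hfr₀ (LThreeB.Par.ta_conj LitFin.all t k ht) h2).trans (by norm_num)
  · exact card_XT_le hxo hto hxt.symm (fun v hv => card_th (isoTh_of_inputs chart inputs hx h1) hv)
  · exact card_XT_le hxo hto hxt.symm (fun v hv => card_fi24 (isoFi_of_inputs chart inputs hx h1) hv)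

/-- **`|C(x) ∩ C(t)|`** for `x` of order 3 and `t` of type `2A`. -/
theorem card_three {x t : MG} (hx : orderOf x = 3) (ht : LThreeB.Row.TA t) (hxt : x * t = t * x) :
    Nat.card ↥(centralizer ({x} : Set MG) ⊓ centralizer ({t} : Set MG)) ≤ 774741019852800 := by
  have hto := LThreeB.Final.orderOf_of_TA ht
  obtain ⟨g, hg⟩ := Cfsg.Agent.LThreeM.FiRow.exists_z_of_comm (x := x) (v := t) (by rw [← hx, pow_orderOf_eq_one])
    (by rw [← pow_two, ← hto, pow_orderOf_eq_one]) (by
      rintro rfl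
      rw [orderOf_one] at hto
      norm_num at hto) hxt
  have h1 : (g⁻¹ * x * g) * zz = zz * (g⁻¹ * x * g) := by
    calc (g⁻¹ * x * g) * zz = g⁻¹ * (x * (g * zz * g⁻¹)) * g := by group
      _ = g⁻¹ * ((g * zz * g⁻¹) * x) * g := by rw [hg]
      _ = zz * (g⁻¹ * x * g) := by group
  let x' : centralizer ({zz} : Set MG) := ⟨g⁻¹ * x * g, mem_centralizer_singleton_iff.2 h1⟩
  have h3 : g * (x' : MG) * g⁻¹ = x := by
    show g * (g⁻¹ * x * g) * g⁻¹ = x
    group
  have hx' : orderOf x' = 3 := by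
    rw [← Subgroup.orderOf_coe, ← hx, ← h3]
    exact (orderOf_injective (MulAut.conj g).toMonoidHom (MulAut.conj g).injective (x' : MG)).symm
  have h4 : (x' : MG) * (g⁻¹ * t * g) = (g⁻¹ * t * g) * x' := by
    have h5 := conj_comm' (g := g⁻¹) hxt
    rw [inv_inv] at h5
    exact h5
  have h6 : LThreeB.Row.TA (g⁻¹ * t * g) := by
    have h5 := LThreeB.Par.ta_conj LitFin.all t g⁻¹ ht
    rw [inv_inv] at h5
    exact h5
  have h7 := in_z hx' h6 h4
  rwa [card_XT_conj h3 (by group : g * (g⁻¹ * t * g) * g⁻¹ = t)] at h7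

end Cfsg.Agent.H740.OreM
end
end

-- part: H8/Mon/Ev
section
prune_inst 0x201004000422000000000000000000203000000200400001200001020000804000040800002000100000880000000060030000004000000000000800000400000002420282480100000000000000000000000000000000000000000000000000000000000
set_option linter.all false
open scoped Cfsg.Agent.FastGrp

-- part: H8/Mon/Tool
section
/-!
# The Monster: an element of order 5 or 11 commuting with an element of order 3 commuting with a transposition (helper8)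

* `comm_of_sylow` : `x` of order `q` in `C(g)`, `q ^ k` the `q`-part of `|C(g)|` and a divisor of `|C(g) ∩ C(s)|`;
* `three_kill` : `g` of order 3 commuting with a `2A`-involution and `x` of order 5 or 11 in `C(g)`: `x` commutes with an
  involution.
-/

set_option autoImplicit false
set_option maxRecDepth 100000

namespace Cfsg.Agent.H8.Mon

open Subgroup Cfsg Cfsg.Agent.LThreeMB Cfsg.Agent.LThreeB
open Cfsg.Agent.MonsterX Cfsg.Agent.MonsterX.InstData Cfsg.Agent.MonsterP Cfsg.Agent.MonsterU Cfsg.Agent.MonsterU.Ch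
open Cfsg.Agent.MonsterU.Lam2 (L2)
open Cfsg.Agent.MonsterN
open Cfsg.Spor (Co1)
open Cfsg.Agent.BpSpor.MBigModel (MG zz pi chart cls card_M card_cent_z card_cent_t)
open Cfsg.Agent.H740.OreM (inputs trNe hasPair ne_zz)

universe u

/-! ### General -/

/-- **The Sylow argument.** -/
theorem comm_of_sylow {G : Type u} [Group G] [Finite G] {q k : ℕ} (hq : q.Prime) {g x s : G} (hx : orderOf x = q)
    (hxg : x * g = g * x) (h1 : ¬ q ^ (k + 1) ∣ Nat.card ↥(centralizer ({g} : Set G))) (hs : orderOf s = 2)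
    (h2 : q ^ k ∣ Nat.card ↥(centralizer ({g} : Set G) ⊓ centralizer ({s} : Set G))) :
    ∃ v : G, orderOf v = 2 ∧ v * x = x * v := by
  obtain ⟨c, hc, hcx⟩ := MSevenT.conj_into (C := centralizer ({g} : Set G))
    (T := centralizer ({g} : Set G) ⊓ centralizer ({s} : Set G)) inf_le_left hq h1 h2 hx
    (mem_centralizer_singleton_iff.2 hxg)
  have h3 := mem_centralizer_singleton_iff.1 hcx.2
  refine ⟨c⁻¹ * s * c, ?_, ?_⟩
  · rw [← hs]
    have := MulEquiv.orderOf_eq (MulAut.conj c⁻¹) s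
    rw [MulAut.conj_apply, inv_inv] at this
    exact this
  · calc c⁻¹ * s * c * x = c⁻¹ * (s * (c * x * c⁻¹)) * c := by group
      _ = c⁻¹ * ((c * x * c⁻¹) * s) * c := by rw [h3]
      _ = x * (c⁻¹ * s * c) := by group

/-- an involution of `C(g) / ⟨g⟩` lifts -/
theorem exists_lift {G : Type u} [Group G] {g : G} {r : ℕ} (hr : Odd r) (hg : orderOf g = r) {v : XX g}
    (hv : orderOf v = 2) : ∃ (s : G) (hs : s * g = g * s), orderOf s = 2 ∧ mk g hs = v := by
  obtain ⟨c, hc, hcv⟩ := exists_mk v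
  have hc' : Commute c g := hc
  have h1 : (mk g hc) ^ 2 = 1 := by rw [hcv, ← hv, pow_orderOf_eq_one]
  have h2 : mk g (show (c * c) * g = g * (c * c) from (hc'.mul_left hc').eq) = 1 := by
    rw [← h1, pow_two]
    rfl
  obtain ⟨i, hi⟩ := (LThreeMB.mk_eq_one _).1 h2
  obtain ⟨m, hm⟩ := hr
  have h3 : (c ^ r) * (c ^ r) = 1 := by
    rw [← (Commute.refl c).mul_pow r, ← hi, ← hg, ← zpow_natCast, ← zpow_mul, mul_comm, zpow_mul, zpow_natCast,
      pow_orderOf_eq_one, one_zpow]
  have h4 : mk g (show (c ^ r) * g = g * (c ^ r) from (hc'.pow_left r).eq) = v := by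
    have h5 : mk g (show (c ^ r) * g = g * (c ^ r) from (hc'.pow_left r).eq) = (mk g hc) ^ r := rfl
    rw [h5, hm, pow_succ, pow_mul, h1, one_pow, one_mul, hcv]
  refine ⟨c ^ r, (hc'.pow_left r).eq, ?_, h4⟩
  have : Fact (Nat.Prime 2) := ⟨Nat.prime_two⟩
  refine orderOf_eq_prime (by rw [pow_two, h3]) fun h5 => ?_
  have h6 : v = 1 := by
    rw [← h4]
    refine (LThreeMB.mk_eq_one _).2 ⟨0, ?_⟩
    rw [h5, zpow_zero]
  rw [h6, orderOf_one] at hv
  norm_num at hv

/-- involutions equal modulo `⟨y⟩` -/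
theorem eq_of_mk {G : Type u} [Group G] {y s s' : G} {r : ℕ} (hr : Odd r) (hy : orderOf y = r) (h1 : s * s = 1)
    (h1' : s' * s' = 1) (hs : s * y = y * s) (hs' : s' * y = y * s') (h : mk y hs = mk y hs') : s = s' := by
  obtain ⟨i, hi⟩ := (mk_eq_mk hs hs').1 h
  have h2 : y ^ i * y ^ i = 1 := by
    have h3 : Commute s (y ^ i) := (show Commute s y from hs).zpow_right i
    calc y ^ i * y ^ i = (s * s) * (y ^ i * y ^ i) := by rw [h1, one_mul]
      _ = s * (s * y ^ i) * y ^ i := by group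
      _ = s * (y ^ i * s) * y ^ i := by rw [h3.eq]
      _ = (s * y ^ i) * (s * y ^ i) := by group
      _ = 1 := by rw [hi, h1']
  have h4 : y ^ i = 1 := by
    obtain ⟨m, hm⟩ := hr
    have h5 : (y ^ i) ^ r = 1 := by
      rw [← hy, ← zpow_natCast, ← zpow_mul, mul_comm, zpow_mul, zpow_natCast, pow_orderOf_eq_one, one_zpow]
    rw [hm, pow_succ, pow_mul, pow_two, h2, one_pow, one_mul] at h5
    exact h5
  rw [← hi, h4, mul_one]

/-- elements commuting with an involution modulo `⟨y⟩` -/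
theorem comm_of_mk {G : Type u} [Group G] {y s g : G} {r : ℕ} (hr : Odd r) (hy : orderOf y = r) (h1 : s * s = 1)
    (hs : s * y = y * s) (hg : g * y = y * g) (h : mk y hg * mk y hs = mk y hs * mk y hg) : g * s = s * g := by
  have h2 : (g * s * g⁻¹) * (g * s * g⁻¹) = 1 := by
    calc (g * s * g⁻¹) * (g * s * g⁻¹) = g * (s * s) * g⁻¹ := by group
      _ = 1 := by rw [h1]; group
  have h3 : mk y (LThreeMB.conj_comm hg hs) = mk y hs := by
    have h4 : mk y (LThreeMB.conj_comm hg hs) = mk y hg * mk y hs * (mk y hg)⁻¹ := rfl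
    rw [h4, h, mul_inv_cancel_right]
  exact mul_inv_eq_iff_eq_mul.1 (eq_of_mk hr hy h2 h1 _ hs h3)

/-- **`|C_K(s)|` divides `|C(y) ∩ C(s)|`**, `K = C(y)/⟨y⟩` -/
theorem dvd_inf {G : Type u} [Group G] [Finite G] {y s : G} {r : ℕ} (hr : Odd r) (hy : orderOf y = r)
    (hs2 : s * s = 1) (hs : s * y = y * s) :
    Nat.card (centralizer ({mk y hs} : Set (XX y))) ∣
      Nat.card ↥(centralizer ({y} : Set G) ⊓ centralizer ({s} : Set G)) := by
  let f : ↥(centralizer ({y} : Set G) ⊓ centralizer ({s} : Set G)) →* XX y :=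
    (QuotientGroup.mk' (Zx y)).comp (Subgroup.inclusion inf_le_left)
  have h1 : centralizer ({mk y hs} : Set (XX y)) ≤ f.range := by
    intro u hu
    obtain ⟨g, hg, rfl⟩ := exists_mk u
    have h2 := mem_centralizer_singleton_iff.1 hu
    exact ⟨⟨g, mem_centralizer_singleton_iff.2 hg, mem_centralizer_singleton_iff.2 (comm_of_mk hr hy hs2 hs hg h2)⟩, rfl⟩
  exact (card_dvd_of_le h1).trans (card_range_dvd f)

/-- **The case of the quotient.** -/
theorem comm_of_quot {G : Type u} [Group G] [Finite G] {q k r : ℕ} (hq : q.Prime) (hr : Odd r) {g x : G}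
    (hg : orderOf g = r) (hx : orderOf x = q) (hxg : x * g = g * x)
    (h1 : ¬ q ^ (k + 1) ∣ Nat.card ↥(centralizer ({g} : Set G))) {v : XX g} (hv : orderOf v = 2)
    (h2 : q ^ k ∣ Nat.card ↥(centralizer ({v} : Set (XX g)))) : ∃ v : G, orderOf v = 2 ∧ v * x = x * v := by
  obtain ⟨s, hs, hs2, rfl⟩ := exists_lift hr hg hv
  refine comm_of_sylow hq hx hxg h1 hs2 (h2.trans (dvd_inf hr hg ?_ hs))
  rw [← pow_two, ← hs2, pow_orderOf_eq_one]

/-! ### Elements of order 3 of the Monster -/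

/-- the numbers -/
def Adm (q k : ℕ) : Prop := (q = 5 ∧ k = 2) ∨ (q = 11 ∧ k = 1)

theorem Adm.prime {q k : ℕ} (h : Adm q k) : q.Prime := by
  rcases h with ⟨rfl, rfl⟩ | ⟨rfl, rfl⟩ <;> norm_num

/-- **Fixed rank 0.** -/
theorem kill_zero {q k : ℕ} (hqk : Adm q k) {g : centralizer ({zz} : Set MG)} (hg : orderOf g = 3)
    (hfr : fr (pi g) = 1) {x : MG} (hx : orderOf x = q) (hxg : x * g = g * x) :
    ∃ v : MG, orderOf v = 2 ∧ v * x = x * v := by
  have hfin : Finite MG := BpSpor.MBigModel.finite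
  have hg3 : g ^ 3 = 1 := by rw [← hg, pow_orderOf_eq_one]
  have h0 := H199.AbMon.three_zero' hg hfr
  obtain ⟨e⟩ := inputs.suz _ (orderOf_pi chart hg) hfr
  have hc : Nat.card (XX (pi g)) = 448345497600 := by rw [Nat.card_congr e.toEquiv, Cfsg.Agent.S1694.result.2]
  have h1 : Nat.card (XX (pi g)) ∣ Nat.card ↥(XT (g : MG) zz) := by
    show _ ∣ Nat.card ↥(XT (g : MG) ((zD g : ↥(centralizer ({(g : MG)} : Set MG))) : MG))
    rw [← Nat.card_congr (centXT' (zD g)).toEquiv]
    exact Subgroup.card_dvd_of_surjective (toXX pi g) (toXX_surj chart hg3)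
  rw [hc] at h1
  refine comm_of_sylow (s := zz) (k := k) hqk.prime hx hxg (fun h => ?_) BpSpor.MBigModel.orderOf_zz (dvd_trans ?_ h1)
  · have h2 := h.trans h0
    rcases hqk with ⟨rfl, rfl⟩ | ⟨rfl, rfl⟩ <;> norm_num at h2
  · rcases hqk with ⟨rfl, rfl⟩ | ⟨rfl, rfl⟩ <;> norm_num

open Cfsg.Spor Cfsg.Agent.R08 in
/-- an involution of `Fi24'` with a centralizer of order divisible by `|Fi22|` -/
theorem exists_fi {X : Type u} [Group X] (h : Spor.IsoFi24' X) :
    ∃ t : X, orderOf t = 2 ∧ 64561751654400 ∣ Nat.card ↥(centralizer ({t} : Set X)) := by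
  obtain ⟨e⟩ := h
  have h := KFacts.FiTF.Tet.isTet (t := 0) (by norm_num)
  generalize KFacts.FiTF.Defs.D 0 0 = a at h
  generalize KFacts.FiTF.Defs.D 0 1 = b at h
  generalize KFacts.FiTF.Defs.D 0 2 = c at h
  generalize KFacts.FiTF.Defs.D 0 3 = d at h
  obtain ⟨P⟩ := TetFi24A.exists_at h.ha h.hb h.nab h.ab
  let t : Spor.Fi24' := ⟨a * b, FiTwentyFour.even h.ha h.hb⟩
  have ht : orderOf t = 2 := by
    have : Fact (Nat.Prime 2) := ⟨Nat.prime_two⟩
    have aa : a * a = 1 := FiTwentyFour.sq h.ha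
    refine orderOf_eq_prime ?_ ?_
    · apply Subtype.ext
      show (a * b) ^ 2 = 1
      have bb : b * b = 1 := FiTwentyFour.sq h.hb
      have ba : b * a = a * b := h.ab.eq.symm
      rw [pow_two]
      calc a * b * (a * b) = a * (b * a) * b := by group
        _ = (a * a) * (b * b) := by rw [ba]; group
        _ = 1 := by rw [aa, bb, one_mul]
    · intro h1
      have h2 : a * b = 1 := congrArg Subtype.val h1
      exact h.nab ((eq_inv_of_mul_eq_one_right h2).trans (eq_inv_of_mul_eq_one_right aa).symm).symm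
  have hN : Nat.card (CTwoTab.FiTF.N a b) = 2 * 64561751654400 := by
    rw [Nat.card_congr (CTwoTab.FiTF.eN a b).toEquiv, OddHalf.D4.Spor.FiTF.card_Cab P]
  have hle : CTwoTab.FiTF.N a b ≤ centralizer ({t} : Set Spor.Fi24') := CTwoTab.FiTF.N_le rfl
  refine ⟨e.symm t, by rw [MulEquiv.orderOf_eq, ht], ?_⟩
  rw [LThreeB.card_centralizer_congr e.symm.symm, MulEquiv.symm_symm, MulEquiv.apply_symm_apply]
  exact (Dvd.intro_left 2 rfl).trans ((hN ▸ card_dvd_of_le hle))

/-- **In `C(z)`.** -/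
theorem kill_in {q k : ℕ} (hqk : Adm q k) {g : centralizer ({zz} : Set MG)} (hg : orderOf g = 3) {t : MG}
    (ht : LThreeB.Row.TA t) (hgt : (g : MG) * t = t * g) {x : MG} (hx : orderOf x = q) (hxg : x * g = g * x) :
    ∃ v : MG, orderOf v = 2 ∧ v * x = x * v := by
  have hfin : Finite MG := BpSpor.MBigModel.finite
  have hs : IsSimpleGroup MG := BpSpor.MBigModel.simple
  have hto := LThreeB.Final.orderOf_of_TA ht
  have hgo : orderOf (g : MG) = 3 := by rw [Subgroup.orderOf_coe, hg]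
  rcases inputs.ranks (pi g) (orderOf_pi chart hg) with h1 | h1 | h1 | h1
  · exact kill_zero hqk hg h1 hx hxg
  · obtain ⟨x₀, u, w, hx₀, hfr₀, huz, hux, hne, hw⟩ := hasPair
    obtain ⟨c, hc⟩ := conj_six chart trNe inputs.ranks inputs.six
      (fun x hx h2 => ⟨(good_of_inputs chart inputs hx h2 : Good.{0} _).simple,
        (good_of_inputs chart inputs hx h2 : Good.{0} _).nc⟩) hx₀ hfr₀ huz hux hne hw hg h1
    obtain ⟨v, hv, hvx⟩ := kill_zero hqk hx₀ hfr₀ (x := c * x * c⁻¹) (by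
      rw [← hx]
      exact MulEquiv.orderOf_eq (MulAut.conj c) x) (by
      rw [← hc]
      calc c * x * c⁻¹ * (c * g * c⁻¹) = c * (x * g) * c⁻¹ := by group
        _ = c * (g * x) * c⁻¹ := by rw [hxg]
        _ = _ := by group)
    refine ⟨c⁻¹ * v * c, ?_, ?_⟩
    · rw [← hv]
      have := MulEquiv.orderOf_eq (MulAut.conj c⁻¹) v
      rw [MulAut.conj_apply, inv_inv] at this
      exact this
    · calc c⁻¹ * v * c * x = c⁻¹ * (v * (c * x * c⁻¹)) * c := by group
        _ = c⁻¹ * ((c * x * c⁻¹) * v) * c := by rw [hvx]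
        _ = x * (c⁻¹ * v * c) := by group
  · -- `Th`
    exfalso
    obtain ⟨e⟩ := isoTh_of_inputs chart inputs hg h1
    have hzg : zz * (g : MG) = g * zz := (mem_centralizer_singleton_iff.1 g.2).symm
    obtain ⟨c, hc⟩ := MSevenT.conj_of_one (x := (g : MG)) (by rw [hgo]; decide) (fun a b ha hb => by
      have h2 := ThOneClass.oneClass (e a) (e b) (by rw [MulEquiv.orderOf_eq, ha]) (by rw [MulEquiv.orderOf_eq, hb])
      obtain ⟨d, hd⟩ := isConj_iff.1 h2
      refine isConj_iff.2 ⟨e.symm d, ?_⟩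
      apply e.injective
      rw [map_mul, map_mul, map_inv, e.apply_symm_apply]
      exact hd) (i := zz) (z := t) BpSpor.MBigModel.orderOf_zz hto hzg hgt.symm
    exact ne_zz ht hc
  · -- `Fi24'`
    have hI := isoFi_of_inputs chart inputs hg h1
    obtain ⟨v, hv, hv2⟩ := exists_fi hI
    obtain ⟨e⟩ := hI
    have hcard : Nat.card ↥(centralizer ({(g : MG)} : Set MG)) = 3 * 1255205709190661721292800 := by
      rw [H199.NSmMon.card_XX, hgo, Nat.card_congr e.toEquiv, Cfsg.Agent.S1698.result.2]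
    refine comm_of_quot (k := k) (r := 3) hqk.prime (by decide) hgo hx hxg (fun h => ?_) hv (dvd_trans ?_ hv2)
    · rw [hcard] at h
      rcases hqk with ⟨rfl, rfl⟩ | ⟨rfl, rfl⟩ <;> norm_num at h
    · rcases hqk with ⟨rfl, rfl⟩ | ⟨rfl, rfl⟩ <;> norm_num

/-- **`x` of order 5 or 11 commutes with an element of order 3 commuting with a transposition.** -/
theorem three_kill {q k : ℕ} (hqk : Adm q k) {g t x : MG} (hg : orderOf g = 3) (ht : LThreeB.Row.TA t)
    (hgt : g * t = t * g) (hx : orderOf x = q) (hxg : x * g = g * x) : ∃ v : MG, orderOf v = 2 ∧ v * x = x * v := by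
  have hto := LThreeB.Final.orderOf_of_TA ht
  obtain ⟨c, hc⟩ := Cfsg.Agent.LThreeM.FiRow.exists_z_of_comm (x := g) (v := t) (by rw [← hg, pow_orderOf_eq_one])
    (by rw [← pow_two, ← hto, pow_orderOf_eq_one]) (by
      rintro rfl
      rw [orderOf_one] at hto
      norm_num at hto) hgt
  have h1 : (c⁻¹ * g * c) * zz = zz * (c⁻¹ * g * c) := by
    calc (c⁻¹ * g * c) * zz = c⁻¹ * (g * (c * zz * c⁻¹)) * c := by group
      _ = c⁻¹ * ((c * zz * c⁻¹) * g) * c := by rw [hc]
      _ = zz * (c⁻¹ * g * c) := by group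
  have hco : ∀ {a : MG} {n : ℕ}, orderOf a = n → orderOf (c⁻¹ * a * c) = n := by
    intro a n ha
    rw [← ha]
    have := MulEquiv.orderOf_eq (MulAut.conj c⁻¹) a
    rw [MulAut.conj_apply, inv_inv] at this
    exact this
  have hcc : ∀ {a b : MG}, a * b = b * a → (c⁻¹ * a * c) * (c⁻¹ * b * c) = (c⁻¹ * b * c) * (c⁻¹ * a * c) := by
    intro a b hab
    calc (c⁻¹ * a * c) * (c⁻¹ * b * c) = c⁻¹ * (a * b) * c := by group
      _ = c⁻¹ * (b * a) * c := by rw [hab]
      _ = _ := by group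
  let g' : centralizer ({zz} : Set MG) := ⟨c⁻¹ * g * c, mem_centralizer_singleton_iff.2 h1⟩
  have hg' : orderOf g' = 3 := by
    rw [← Subgroup.orderOf_coe]
    exact hco hg
  have ht' : LThreeB.Row.TA (c⁻¹ * t * c) := by
    have h5 := LThreeB.Par.ta_conj LitFin.all t c⁻¹ ht
    rw [inv_inv] at h5
    exact h5
  obtain ⟨v, hv, hvx⟩ := kill_in hqk hg' ht' (hcc hgt) (hco hx) (hcc hxg)
  refine ⟨c * v * c⁻¹, ?_, ?_⟩
  · rw [← hv]
    exact MulEquiv.orderOf_eq (MulAut.conj c) v
  · calc c * v * c⁻¹ * x = c * (v * (c⁻¹ * x * c)) * c⁻¹ := by group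
      _ = c * ((c⁻¹ * x * c) * v) * c⁻¹ := by rw [hvx]
      _ = x * (c * v * c⁻¹) := by group

end Cfsg.Agent.H8.Mon
end

-- part: H8/Mon/Ev
section
/-!
# The Monster: elements of order 5 commuting with involutions (helper8)

* `ev_of_ta` : `v` of order 5 commuting with a transposition commutes with a conjugate of `z`;
* `odd_iff` ...
* `eleven_inv` : `v` of order 5 commuting with a conjugate of `z` and `w` of order 11 in `C(v)`: `w` commutes with an involution;
* `not_thirteen` : `v` of order 5 commuting with an involution: `13 ∤ |C(v)|`;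
* `five_inv` : `w` of order 11 commuting with an involution, `x` of order 5 in `C(w)`: `x` commutes with an involution.
-/

set_option autoImplicit false
set_option maxRecDepth 100000

namespace Cfsg.Agent.H8.Mon

open Subgroup Cfsg Cfsg.Agent.LThreeMB Cfsg.Agent.LThreeB
open Cfsg.Agent.MonsterX Cfsg.Agent.MonsterX.InstData Cfsg.Agent.MonsterP Cfsg.Agent.MonsterU Cfsg.Agent.MonsterU.Ch
open Cfsg.Agent.MonsterU.Lam2 (L2)
open Cfsg.Agent.MonsterN Cfsg.Agent.MonsterX.MainPack Cfsg.Agent.MonsterX.MainBasic Cfsg.Agent.MonsterX.Model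
open Cfsg.Spor (Co1)
open Cfsg.Agent.BpSpor.MBigModel (MG zz pi chart cls card_M card_cent_z card_cent_t)
open Cfsg.Agent.H199.NSmMon (Ev)

universe u

theorem orderOf_conj' {G : Type u} [Group G] (c a : G) : orderOf (c⁻¹ * a * c) = orderOf a := by
  have := MulEquiv.orderOf_eq (MulAut.conj c⁻¹) a
  rw [MulAut.conj_apply, inv_inv] at this
  exact this

theorem conj_comm2 {G : Type u} [Group G] {a b : G} (c : G) (h : a * b = b * a) :
    (c⁻¹ * a * c) * (c⁻¹ * b * c) = (c⁻¹ * b * c) * (c⁻¹ * a * c) := by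
  calc (c⁻¹ * a * c) * (c⁻¹ * b * c) = c⁻¹ * (a * b) * c := by group
    _ = c⁻¹ * (b * a) * c := by rw [h]
    _ = _ := by group

/-- pulling back an involution -/
theorem pull {G : Type u} [Group G] {c x : G} (h : ∃ v : G, orderOf v = 2 ∧ v * (c⁻¹ * x * c) = (c⁻¹ * x * c) * v) :
    ∃ v : G, orderOf v = 2 ∧ v * x = x * v := by
  obtain ⟨v, hv, hvx⟩ := h
  refine ⟨c * v * c⁻¹, by rw [← hv]; exact MulEquiv.orderOf_eq (MulAut.conj c) v, ?_⟩
  calc c * v * c⁻¹ * x = c * (v * (c⁻¹ * x * c)) * c⁻¹ := by group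
    _ = c * ((c⁻¹ * x * c) * v) * c⁻¹ := by rw [hvx]
    _ = x * (c * v * c⁻¹) := by group

/-- in the centralizer of a central element of order 2 of a double cover -/
theorem four_dvd {H B : Type u} [Group H] [Finite H] [Group B] (hZ : Nat.card ↥(center H) = 2)
    (e : H ⧸ center H ≃* B) (hB : ∀ y : B, orderOf y = 5 → ∃ u : B, orderOf u = 2 ∧ u * y = y * u) {v : H}
    (hv : orderOf v = 5) : 4 ∣ Nat.card ↥(centralizer ({v} : Set H)) := by
  have h5 : Fact (Nat.Prime 5) := ⟨Nat.prime_five⟩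
  have hzz : ∀ c ∈ center H, c ^ 2 = 1 := by
    intro c hc
    have h1 : (⟨c, hc⟩ : ↥(center H)) ^ 2 = 1 := by rw [← hZ, pow_card_eq_one']
    exact congrArg Subtype.val h1
  have hy : orderOf (e (QuotientGroup.mk v)) = 5 := by
    rw [MulEquiv.orderOf_eq]
    refine orderOf_eq_prime ?_ ?_
    · rw [← QuotientGroup.mk_pow, ← hv, pow_orderOf_eq_one, QuotientGroup.mk_one]
    · intro h
      have h1 := hzz v ((QuotientGroup.eq_one_iff v).1 h)
      have h2 := orderOf_dvd_of_pow_eq_one h1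
      rw [hv] at h2
      norm_num at h2
  obtain ⟨u, hu, huy⟩ := hB _ hy
  obtain ⟨h, hh⟩ := QuotientGroup.mk_surjective (e.symm u)
  have h1 : (QuotientGroup.mk h : H ⧸ center H) * QuotientGroup.mk v = QuotientGroup.mk v * QuotientGroup.mk h := by
    apply e.injective
    rw [map_mul, map_mul, hh, e.apply_symm_apply, huy]
  -- `h` commutes with `v`
  have hc : h * v * h⁻¹ * v⁻¹ ∈ center H := by
    rw [← QuotientGroup.eq_one_iff]
    show (QuotientGroup.mk h : H ⧸ center H) * QuotientGroup.mk v * (QuotientGroup.mk h)⁻¹ * (QuotientGroup.mk v)⁻¹ = 1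
    rw [h1]
    group
  set c := h * v * h⁻¹ * v⁻¹ with hcdef
  have h2 : h * v * h⁻¹ = c * v := by rw [hcdef]; group
  have hcv : Commute c v := (mem_center_iff.1 hc v).symm
  have h3 : c = 1 := by
    have h4 : (c * v) ^ 5 = 1 := by
      rw [← h2, conj_pow, ← hv, pow_orderOf_eq_one, mul_one, mul_inv_cancel]
    rw [hcv.mul_pow, ← hv, pow_orderOf_eq_one, mul_one, hv] at h4
    calc c = c ^ 5 * (c ^ 2)⁻¹ * (c ^ 2)⁻¹ := by group
      _ = 1 := by rw [h4, hzz c hc]; group
  have hhv : h * v = v * h := by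
    rw [h3, one_mul] at h2
    exact mul_inv_eq_iff_eq_mul.1 h2
  -- the quotient
  set K := centralizer ({v} : Set H) with hK
  have hZK : center H ≤ K := center_le_centralizer _
  have hn : ((center H).subgroupOf K).Normal := inferInstance
  have h6 : Nat.card ↥((center H).subgroupOf K) = 2 := by
    rw [Nat.card_congr (subgroupOfEquivOfLe hZK).toEquiv, hZ]
  have h7 : 2 ∣ Nat.card (↥K ⧸ (center H).subgroupOf K) := by
    let k : K := ⟨h, mem_centralizer_singleton_iff.2 hhv⟩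
    have hu2 : (QuotientGroup.mk (h ^ 2) : H ⧸ center H) = 1 := by
      rw [QuotientGroup.mk_pow, hh, ← map_pow, ← hu, pow_orderOf_eq_one, map_one]
    have hk : orderOf (QuotientGroup.mk k : ↥K ⧸ (center H).subgroupOf K) = 2 := by
      have : Fact (Nat.Prime 2) := ⟨Nat.prime_two⟩
      refine orderOf_eq_prime ?_ ?_
      · rw [← QuotientGroup.mk_pow, QuotientGroup.eq_one_iff]
        exact mem_subgroupOf.2 ((QuotientGroup.eq_one_iff (h ^ 2)).1 hu2)
      · intro h8
        rw [QuotientGroup.eq_one_iff] at h8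
        have h9 : (QuotientGroup.mk h : H ⧸ center H) = 1 := (QuotientGroup.eq_one_iff h).2 (mem_subgroupOf.1 h8)
        rw [hh] at h9
        have h10 : u = 1 := by
          rw [← e.apply_symm_apply u, h9, map_one]
        rw [h10, orderOf_one] at hu
        norm_num at hu
    rw [← hk]
    exact orderOf_dvd_natCard _
  rw [Subgroup.card_eq_card_quotient_mul_card_subgroup ((center H).subgroupOf K), h6]
  obtain ⟨m, hm⟩ := h7
  exact ⟨m, by rw [hm]; ring⟩

/-- **An element of order 5 commuting with a transposition commutes with a conjugate of `z`.** -/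
theorem ev_of_ta {v t : MG} (hv : orderOf v = 5) (ht : LThreeB.Row.TA t) (hvt : v * t = t * v) : Ev v := by
  have hfin : Finite MG := BpSpor.MBigModel.finite
  have ht' : IsConj (tG LitFin.all.hG LitFin.all.hR) t := ht
  obtain ⟨c, hc⟩ := isConj_iff.1 ht'
  set t0 := tG LitFin.all.hG LitFin.all.hR with ht0
  have hcov := H546.MFiveFull.cover_t Uncond.all (NodesGrp.prel NodesU.hyp) (NodesNe.ne NodesU.hyp) NodesU.conj_ten
      Cfsg.Agent.S1704.result
  obtain ⟨hZ, ⟨e⟩, -⟩ := hcov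
  have hB4 : Cfsg.Spor.IsoB Cfsg.Spor.BabyMonster := ⟨MulEquiv.refl _⟩
  have h1 : (c⁻¹ * v * c) * t0 = t0 * (c⁻¹ * v * c) := by
    have h2 := conj_comm2 c hvt
    have h3 : c⁻¹ * t * c = t0 := by rw [← hc]; group
    rwa [h3] at h2
  have hBf : Finite Cfsg.Spor.BabyMonster := Nat.finite_of_card_ne_zero (by rw [NotCT.Orders.b hB4]; norm_num)
  let v' : ↥(centralizer ({t0} : Set MG)) := ⟨c⁻¹ * v * c, mem_centralizer_singleton_iff.2 h1⟩
  have hv' : orderOf v' = 5 := by rw [← Subgroup.orderOf_coe]; exact (orderOf_conj' c v).trans hv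
  have h4 := four_dvd hZ e (fun y hy => H705.OreB.BInvFive.exists_inv hB4 hy) hv'
  have h5 : 4 ∣ Nat.card ↥(centralizer ({v} : Set MG)) := by
    rw [← BpSpor.card_cent_of_conj (c := c⁻¹) (u := v) (v := c⁻¹ * v * c) (by rw [inv_inv])]
    refine h4.trans ?_
    rw [← card_map_of_injective (centralizer ({t0} : Set MG)).subtype_injective]
    refine card_dvd_of_le ?_
    rintro _ ⟨k, hk, rfl⟩
    exact mem_centralizer_singleton_iff.2 (congrArg Subtype.val (mem_centralizer_singleton_iff.1 hk))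
  exact (CpAutBFive.EvenRow.cases hv).resolve_right fun h => h h5

/-- **An element of order 5 commuting with an involution commutes with a conjugate of `z`.** -/
theorem ev_of_inv {v s : MG} (hv : orderOf v = 5) (hs : orderOf s = 2) (hsv : s * v = v * s) : Ev v := by
  rcases cls hs with ⟨g, hg⟩ | ht
  · exact ⟨g, by rw [hg]; exact hsv⟩
  · exact ev_of_ta hv ht hsv.symm

/-- `13` -/
theorem not_thirteen {v : MG} (hv : orderOf v = 5) (he : Ev v) : ¬ 13 ∣ Nat.card ↥(centralizer ({v} : Set MG)) := by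
  rcases H199.AbMon.five' hv he with h | ⟨-, -, h⟩
  · rw [h]
    norm_num
  · exact h

/-- **`x` of order 5 commuting with `w` of order 11 commuting with an involution.** -/
theorem five_inv {w s x : MG} (hw : orderOf w = 11) (hs : orderOf s = 2) (hsw : w * s = s * w) (hx : orderOf x = 5)
    (hxw : x * w = w * x) : ∃ v : MG, orderOf v = 2 ∧ v * x = x * v := by
  have hfin : Finite MG := BpSpor.MBigModel.finite
  have hsim : IsSimpleGroup MG := BpSpor.MBigModel.simple
  obtain ⟨c, hc⟩ := BpSpor.MBigEleven.comm_z hw hs hsw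
  apply pull (c := c)
  have h1 : (c⁻¹ * w * c) * zz = zz * (c⁻¹ * w * c) := by
    have h2 := conj_comm2 c hc.symm
    have h3 : c⁻¹ * (c * zz * c⁻¹) * c = zz := by group
    rwa [h3] at h2
  let w' : ↥(centralizer ({zz} : Set MG)) := ⟨c⁻¹ * w * c, mem_centralizer_singleton_iff.2 h1⟩
  have hwo : orderOf (c⁻¹ * w * c) = 11 := (orderOf_conj' c w).trans hw
  have hw' : orderOf w' = 11 := by rw [← Subgroup.orderOf_coe]; exact hwo
  have hxo : orderOf (c⁻¹ * x * c) = 5 := (orderOf_conj' c x).trans hx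
  have hxw' := conj_comm2 c hxw
  obtain ⟨x₀, hx₀, hpx⟩ := H800.ME.Final.exists_x
  have hx₀o : orderOf (x₀ : MG) = 11 := by rw [Subgroup.orderOf_coe, hx₀]
  obtain ⟨e⟩ := H800.ME.Twelve.iso chart hx₀ hpx (H800.ME.Final.dvd_XX hx₀o)
  obtain ⟨k, hk⟩ := CpAutON.Gen.conj_into (p := 11) (BpSpor.MBigModel.not_sq (Or.inl rfl)
    BpSpor.MBigModel.orderOf_zz) hw' hx₀
  obtain ⟨i, hi⟩ := hk
  have hi' : (x₀ : MG) ^ i = (k : MG) * (c⁻¹ * w * c) * (k : MG)⁻¹ := congrArg Subtype.val hi
  -- `x₀` is a power of the conjugate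
  have hio : orderOf ((x₀ : MG) ^ i) = 11 := by
    rw [hi', ← hwo]
    exact MulEquiv.orderOf_eq (MulAut.conj (k : MG)) _
  have hz : zpowers ((x₀ : MG) ^ i) = zpowers (x₀ : MG) := by
    apply Subgroup.eq_of_le_of_card_ge
    · rw [zpowers_le]; exact ⟨i, rfl⟩
    · rw [Nat.card_zpowers, Nat.card_zpowers, hio, hx₀o]
  obtain ⟨j, hj⟩ : (x₀ : MG) ∈ zpowers ((x₀ : MG) ^ i) := by rw [hz]; exact mem_zpowers _
  have hj' : ((x₀ : MG) ^ i) ^ j = x₀ := hj
  apply pull (c := (k : MG)⁻¹)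
  rw [inv_inv]
  refine comm_of_quot (q := 5) (k := 1) (r := 11) (g := (x₀ : MG)) Nat.prime_five (by decide) hx₀o ?_ ?_ ?_
    (v := e.symm CoThreeStd.MTwelve.y) ?_ ?_
  · rw [← hxo]
    exact MulEquiv.orderOf_eq (MulAut.conj (k : MG)) _
  · rw [← hj']
    have h4 : Commute ((k : MG) * (c⁻¹ * x * c) * (k : MG)⁻¹) ((x₀ : MG) ^ i) := by
      rw [hi']
      show _ * _ = _ * _
      calc (k : MG) * (c⁻¹ * x * c) * (k : MG)⁻¹ * ((k : MG) * (c⁻¹ * w * c) * (k : MG)⁻¹)
          = k * ((c⁻¹ * x * c) * (c⁻¹ * w * c)) * (k : MG)⁻¹ := by group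
        _ = k * ((c⁻¹ * w * c) * (c⁻¹ * x * c)) * (k : MG)⁻¹ := by rw [hxw']
        _ = _ := by group
    exact (h4.zpow_right j).eq
  · rw [H199.NSmMon.card_XX, hx₀o, Nat.card_congr e.toEquiv, Cfsg.Agent.MTwelveType.SylowModel.card_M12]
    norm_num
  · rw [MulEquiv.orderOf_eq]
    have : Fact (Nat.Prime 2) := ⟨Nat.prime_two⟩
    exact orderOf_eq_prime (by rw [pow_two]; exact Cfsg.Agent.CoThreeStd.MTwelve.y_sq)
      Cfsg.Agent.CoThreeStd.MTwelve.y_ne_one
  · rw [LThreeB.card_centralizer_congr e, e.apply_symm_apply, Cfsg.Agent.CoThreeStd.MTwelve.card_cent_y]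
    norm_num

/-- **No element of order 19 commutes with an element of order 5 with odd centralizer.** -/
theorem nineteen (h19 : ∀ y : MG, orderOf y = 19 → Nat.card ↥(centralizer ({y} : Set MG)) = 60 * 19) {x y : MG}
    (hx : orderOf x = 5) (hy : orderOf y = 19) (hxy : x * y = y * x) : ∃ v : MG, orderOf v = 2 ∧ v * x = x * v := by
  have hfin : Finite MG := BpSpor.MBigModel.finite
  have h2F : Fact (Nat.Prime 2) := ⟨Nat.prime_two⟩
  have h19F : Fact (Nat.Prime 19) := ⟨by norm_num⟩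
  obtain ⟨a, ha, ⟨e⟩⟩ := H573.Spor.Monster.exists_five
  have hca : Nat.card ↥(centralizer ({a} : Set MG)) = 5 * 273030912000000 := by
    rw [H199.NSmMon.card_XX, ha, Nat.card_congr e.toEquiv, Cfsg.Agent.S1701.result.2]
  obtain ⟨b, hb⟩ := exists_prime_orderOf_dvd_card' (G := ↥(centralizer ({a} : Set MG))) 19 (by rw [hca]; norm_num)
  obtain ⟨s, hs⟩ := exists_prime_orderOf_dvd_card' (G := ↥(centralizer ({a} : Set MG))) 2 (by rw [hca]; norm_num)
  have hbo : orderOf (b : MG) = 19 := by rw [Subgroup.orderOf_coe, hb]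
  have hso : orderOf (s : MG) = 2 := by rw [Subgroup.orderOf_coe, hs]
  have hba : (b : MG) * a = a * b := mem_centralizer_singleton_iff.1 b.2
  have hsa : (s : MG) * a = a * s := mem_centralizer_singleton_iff.1 s.2
  obtain ⟨k, i, hi⟩ := CpAutON.Gen.conj_into (G := MG) (p := 19) (by rw [card_M]; norm_num) hy hbo
  have hi' : (b : MG) ^ i = k * y * k⁻¹ := hi
  have hio : orderOf ((b : MG) ^ i) = 19 := by
    rw [hi', ← hy]
    exact MulEquiv.orderOf_eq (MulAut.conj k) _
  have hz : zpowers ((b : MG) ^ i) = zpowers (b : MG) := by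
    apply Subgroup.eq_of_le_of_card_ge
    · rw [zpowers_le]; exact ⟨i, rfl⟩
    · rw [Nat.card_zpowers, Nat.card_zpowers, hio, hbo]
  obtain ⟨j, hj⟩ : (b : MG) ∈ zpowers ((b : MG) ^ i) := by rw [hz]; exact mem_zpowers _
  have hj' : ((b : MG) ^ i) ^ j = b := hj
  have hxb : (k * x * k⁻¹) * (b : MG) = b * (k * x * k⁻¹) := by
    rw [← hj']
    have h4 : Commute (k * x * k⁻¹) ((b : MG) ^ i) := by
      rw [hi']
      show _ * _ = _ * _
      calc k * x * k⁻¹ * (k * y * k⁻¹) = k * (x * y) * k⁻¹ := by group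
        _ = k * (y * x) * k⁻¹ := by rw [hxy]
        _ = _ := by group
    exact (h4.zpow_right j).eq
  have hxo : orderOf (k * x * k⁻¹) = 5 := by
    rw [← hx]
    exact MulEquiv.orderOf_eq (MulAut.conj k) _
  obtain ⟨d, hd, i2, hd2⟩ := MSevenT.conj_into (C := centralizer ({(b : MG)} : Set MG)) (T := zpowers a) (by
    rw [zpowers_le]
    exact mem_centralizer_singleton_iff.2 hba.symm) (p := 5) (k := 1) Nat.prime_five (by rw [h19 _ hbo]; norm_num)
    (by rw [Nat.card_zpowers, ha]; norm_num) hxo (mem_centralizer_singleton_iff.2 hxb)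
  have hd2' : a ^ i2 = d * (k * x * k⁻¹) * d⁻¹ := hd2
  refine pull (c := (d * k)⁻¹) ⟨s, hso, ?_⟩
  have h5 : (d * k)⁻¹⁻¹ * x * (d * k)⁻¹ = a ^ i2 := by rw [hd2']; group
  rw [h5]
  exact ((show Commute (s : MG) a from hsa).zpow_right i2).eq

end Cfsg.Agent.H8.Mon
end
end

-- part: H8/Mon/Bound
section
prune_inst 0x100400442200000000000000000020200000000020000020400102090801018000010030101000010022a04008002002000009400000002000020000040000000320c2903c0c00110000004800000000000000000000000000000000000000000000000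
set_option linter.all false
open scoped Cfsg.Agent.FastGrp

-- part: H8/Mon/Cop
section
/-!
# A group of order `13 ^ 2` acting on a 5-group (helper8)

`le_three` : `P` a normal subgroup of order `5 ^ b`, `b ≤ 9`, `E` of order `13 ^ 2`, the elements of order 13 of `E` having at most
`5 ^ 3` fixed points on `P`. Then `b ≤ 3`.
-/

set_option autoImplicit false

namespace Cfsg.Agent.H8.Mon.Cop

open Subgroup MulAction

universe u

variable {K : Type u} [Group K]

/-- the action by conjugation -/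
@[reducible] def act (E S : Subgroup K) (h : ∀ e ∈ E, ∀ s ∈ S, e * s * e⁻¹ ∈ S) : MulAction ↥E ↥S where
  smul e s := ⟨e * s * (e : K)⁻¹, h e e.2 s s.2⟩
  one_smul s := Subtype.ext (by
    show ((1 : ↥E) : K) * (s : K) * ((1 : ↥E) : K)⁻¹ = s
    rw [OneMemClass.coe_one]
    group)
  mul_smul a b s := Subtype.ext (by
    show ((a * b : ↥E) : K) * (s : K) * ((a * b : ↥E) : K)⁻¹ = a * (b * s * (b : K)⁻¹) * (a : K)⁻¹
    rw [Subgroup.coe_mul]
    group)

theorem chk1 : ∀ i < 4, ∀ j < 4, 5 ^ i % 13 = 5 ^ j % 13 → i = j := by decide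

theorem chk2 : ∀ i < 4, ∀ b < 10, (5 ^ b + 168 * 5 ^ i) % 169 = 0 → b = i := by decide

/-- the fixed points of the elements of order 13 -/
theorem fix_eq [Finite K] {P E : Subgroup K} [hPn : P.Normal] {b : ℕ} (hP : Nat.card ↥P = 5 ^ b)
    (hE : Nat.card ↥E = 13 ^ 2) (hEc : ∀ a ∈ E, ∀ c ∈ E, a * c = c * a) {y : K} (hy : y ∈ E)
    (hF : ¬ 5 ^ 4 ∣ Nat.card ↥(P ⊓ centralizer ({y} : Set K))) :
    P ⊓ centralizer ({y} : Set K) = P ⊓ centralizer (E : Set K) := by
  have h5 : Fact (Nat.Prime 5) := ⟨Nat.prime_five⟩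
  have h13 : Fact (Nat.Prime 13) := ⟨by norm_num⟩
  set S := P ⊓ centralizer ({y} : Set K) with hS
  set F := P ⊓ centralizer (E : Set K) with hFdef
  have hFS : F ≤ S := inf_le_inf_left _ (centralizer_le (Set.singleton_subset_iff.2 hy))
  have hinv : ∀ e ∈ E, ∀ s ∈ S, e * s * e⁻¹ ∈ S := by
    intro e he s hs
    have h1 := mem_centralizer_singleton_iff.1 hs.2
    have h2 : Commute e y := hEc e he y hy
    have h3 : Commute s y := h1
    exact ⟨hPn.conj_mem s hs.1 e, mem_centralizer_singleton_iff.2 ((h2.mul_left h3).mul_left h2.inv_left).eq⟩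
  let _ : MulAction ↥E ↥S := act E S hinv
  have hEp : IsPGroup 13 ↥E := IsPGroup.of_card hE
  have h1 := hEp.card_modEq_card_fixedPoints (α := ↥S)
  have h2 : Nat.card ↥(fixedPoints ↥E ↥S) = Nat.card ↥F := by
    refine Nat.card_congr ⟨fun s => ⟨(s : ↥S), s.1.2.1, ?_⟩, fun f => ⟨⟨f, hFS f.2⟩, ?_⟩, fun _ => rfl, fun _ => rfl⟩
    · refine mem_centralizer_iff.2 fun e he => ?_
      have h3 := congrArg Subtype.val (s.2 ⟨e, he⟩)
      have h4 : e * ((s : ↥S) : K) * e⁻¹ = (s : ↥S) := h3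
      exact mul_inv_eq_iff_eq_mul.1 h4
    · intro e
      refine Subtype.ext ?_
      show (e : K) * (f : K) * (e : K)⁻¹ = f
      rw [mul_inv_eq_iff_eq_mul]
      exact mem_centralizer_iff.1 f.2.2 e e.2
  rw [h2] at h1
  have hS5 : ∃ i, i < 4 ∧ Nat.card ↥S = 5 ^ i := by
    have h3 : Nat.card ↥S ∣ 5 ^ b := by rw [← hP]; exact card_dvd_of_le inf_le_left
    obtain ⟨i, -, hi⟩ := (Nat.dvd_prime_pow Nat.prime_five).1 h3
    refine ⟨i, ?_, hi⟩
    by_contra hcon
    apply hF
    rw [hi]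
    exact pow_dvd_pow 5 (by omega)
  obtain ⟨i, hi4, hi⟩ := hS5
  have hF5 : ∃ j, j < 4 ∧ Nat.card ↥F = 5 ^ j := by
    have h3 : Nat.card ↥F ∣ 5 ^ i := by rw [← hi]; exact card_dvd_of_le hFS
    obtain ⟨j, hj, hj'⟩ := (Nat.dvd_prime_pow Nat.prime_five).1 h3
    exact ⟨j, by omega, hj'⟩
  obtain ⟨j, hj4, hj⟩ := hF5
  rw [hi, hj] at h1
  have h3 := chk1 i hi4 j hj4 h1
  subst h3
  refine (Subgroup.eq_of_le_of_card_ge hFS ?_).symm
  rw [hi, hj]

/-- **The bound.** -/
theorem le_three [Finite K] {P E : Subgroup K} [hPn : P.Normal] {b : ℕ} (hP : Nat.card ↥P = 5 ^ b) (hb : b ≤ 9)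
    (hE : Nat.card ↥E = 13 ^ 2)
    (hF : ∀ y ∈ E, orderOf y = 13 → ¬ 5 ^ 4 ∣ Nat.card ↥(P ⊓ centralizer ({y} : Set K))) : b ≤ 3 := by
  classical
  have h13 : Fact (Nat.Prime 13) := ⟨by norm_num⟩
  have hEc : ∀ a ∈ E, ∀ c ∈ E, a * c = c * a := by
    intro a ha c hc
    have h1 := (IsPGroup.isMulCommutative_of_card_eq_prime_sq hE).is_comm.comm (⟨a, ha⟩ : ↥E) ⟨c, hc⟩
    exact congrArg Subtype.val h1
  set F := P ⊓ centralizer (E : Set K) with hFdef
  have hinv : ∀ e ∈ E, ∀ s ∈ P, e * s * e⁻¹ ∈ P := fun e _ s hs => hPn.conj_mem s hs e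
  -- the fixed points
  have hfix : ∀ e ∈ E, e ≠ 1 → P ⊓ centralizer ({e} : Set K) = F := by
    intro e he he1
    obtain ⟨y, hy, hyo, hye⟩ : ∃ y ∈ E, orderOf y = 13 ∧ y ∈ zpowers e := by
      have h1 : orderOf e ∣ 13 ^ 2 := by
        rw [← hE, ← Subgroup.orderOf_mk e he]
        exact orderOf_dvd_natCard _
      obtain ⟨n, hn, hn'⟩ := (Nat.dvd_prime_pow h13.out).1 h1
      have hn0 : n ≠ 0 := by
        rintro rfl
        rw [pow_zero, orderOf_eq_one_iff] at hn'
        exact he1 hn'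
      refine ⟨e ^ 13 ^ (n - 1), E.pow_mem he _, ?_, ⟨((13 ^ (n - 1) : ℕ) : ℤ), zpow_natCast _ _⟩⟩
      rw [orderOf_pow_of_dvd (pow_pos (by norm_num) _).ne' (by rw [hn']; exact pow_dvd_pow 13 (by omega)), hn',
        Nat.pow_div (by omega) (by norm_num)]
      have : n - (n - 1) = 1 := by omega
      rw [this, pow_one]
    have h2 := fix_eq hP hE hEc hy (hF y hy hyo)
    apply le_antisymm
    · rw [hFdef, ← h2]
      refine inf_le_inf_left _ ?_
      intro g hg
      have h3 : Commute g e := mem_centralizer_singleton_iff.1 hg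
      obtain ⟨i, hi⟩ := hye
      have hi' : e ^ i = y := hi
      rw [mem_centralizer_singleton_iff, ← hi']
      exact (h3.zpow_right i).eq
    · exact inf_le_inf_left _ (centralizer_le (Set.singleton_subset_iff.2 he))
  -- a `13`-element
  obtain ⟨y, hy⟩ := exists_prime_orderOf_dvd_card' (G := ↥E) 13 (by rw [hE]; norm_num)
  have hyo : orderOf (y : K) = 13 := by rw [Subgroup.orderOf_coe, hy]
  have hy1 : (y : K) ≠ 1 := by
    intro h
    rw [h, orderOf_one] at hyo
    norm_num at hyo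
  have hFc : ∃ i, i < 4 ∧ Nat.card ↥F = 5 ^ i := by
    have h1 := hF y y.2 hyo
    rw [hfix y y.2 hy1] at h1
    have h3 : Nat.card ↥F ∣ 5 ^ b := by rw [← hP]; exact card_dvd_of_le inf_le_left
    obtain ⟨i, -, hi⟩ := (Nat.dvd_prime_pow Nat.prime_five).1 h3
    refine ⟨i, ?_, hi⟩
    by_contra hcon
    apply h1
    rw [hi]
    exact pow_dvd_pow 5 (by omega)
  obtain ⟨i, hi4, hi⟩ := hFc
  -- Burnside
  let _ : MulAction ↥E ↥P := act E P hinv
  have := Fintype.ofFinite ↥E
  have := Fintype.ofFinite ↥P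
  have hB := sum_card_fixedBy_eq_card_orbits_mul_card_group ↥E ↥P
  have h1 : ∀ e : ↥E, Fintype.card (fixedBy ↥P e) = Nat.card ↥(P ⊓ centralizer ({(e : K)} : Set K)) := by
    intro e
    rw [← Nat.card_eq_fintype_card]
    refine Nat.card_congr ⟨fun s => ⟨(s : ↥P), s.1.2, ?_⟩, fun f => ⟨⟨f, f.2.1⟩, ?_⟩, fun _ => rfl, fun _ => rfl⟩
    · have h4 : (e : K) * ((s : ↥P) : K) * (e : K)⁻¹ = (s : ↥P) := congrArg Subtype.val s.2
      exact mem_centralizer_singleton_iff.2 (mul_inv_eq_iff_eq_mul.1 h4).symm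
    · refine Subtype.ext ?_
      show (e : K) * (f : K) * (e : K)⁻¹ = f
      rw [mul_inv_eq_iff_eq_mul]
      exact (mem_centralizer_singleton_iff.1 f.2.2).symm
  have h2 : ∑ e : ↥E, Fintype.card (fixedBy ↥P e) = 5 ^ b + 168 * 5 ^ i := by
    rw [← Finset.add_sum_erase _ _ (Finset.mem_univ (1 : ↥E))]
    congr 1
    · rw [h1, OneMemClass.coe_one]
      have h3 : P ⊓ centralizer ({(1 : K)} : Set K) = P := by
        rw [inf_eq_left]
        intro p _
        rw [mem_centralizer_singleton_iff, mul_one, one_mul]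
      rw [h3, hP]
    · rw [Finset.sum_congr rfl (fun e he => by
        rw [h1, hfix e e.2 (fun h => (Finset.mem_erase.1 he).1 (Subtype.ext h)), hi]), Finset.sum_const,
        Finset.card_erase_of_mem (Finset.mem_univ _), Finset.card_univ, ← Nat.card_eq_fintype_card, hE, smul_eq_mul]
      norm_num
  rw [h2, ← Nat.card_eq_fintype_card (α := ↥E), hE] at hB
  have h3 : (5 ^ b + 168 * 5 ^ i) % 169 = 0 := by
    rw [hB]
    exact Nat.mul_mod_left _ 169
  have h4 := chk2 i hi4 b (by omega) h3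
  omega

end Cfsg.Agent.H8.Mon.Cop
end

-- part: H8/Mon/Bound
section
/-!
# The Monster: the centralizers of the elements of order 5 and 11, odd case (helper8)

* `five_odd` : `|C(x)| ≤ 8 · 10 ^ 16`, `x` of order 5 commuting with no involution;
* `eleven_odd` : `|C(x)| ≤ 8 · 10 ^ 16`, `x` of order 11 commuting with no involution;
* `card11` : all `x` of order 11.
-/

set_option autoImplicit false
set_option maxRecDepth 100000

namespace Cfsg.Agent.H8.Mon

open Subgroup Cfsg Cfsg.Agent.LThreeMB Cfsg.Agent.LThreeB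
open Cfsg.Agent.MonsterX Cfsg.Agent.MonsterX.InstData Cfsg.Agent.MonsterP Cfsg.Agent.MonsterU Cfsg.Agent.MonsterU.Ch
open Cfsg.Agent.MonsterU.Lam2 (L2)
open Cfsg.Agent.MonsterN Cfsg.Agent.MonsterX.MainPack Cfsg.Agent.MonsterX.MainBasic Cfsg.Agent.MonsterX.Model
open Cfsg.Spor (Co1)
open Cfsg.Agent.BpSpor.MBigModel (MG zz pi chart cls card_M card_cent_z card_cent_t)
open Cfsg.Agent.H199.NSmMon (Ev)
open Cfsg.Agent.H199.NSmAbs (exists_common)
open Cfsg.Agent.H199.AbTool (dvd_of_not_dvd dvd_of_not_pow)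

/-- `x` commutes with no involution -/
def NoInv (x : MG) : Prop := ¬ ∃ v : MG, orderOf v = 2 ∧ v * x = x * v

theorem taG : LThreeB.Row.TA (tG LitFin.all.hG LitFin.all.hR) := IsConj.refl _

theorem dvd_cent {a b : MG} (h : a * b = b * a) : orderOf a ∣ Nat.card ↥(centralizer ({b} : Set MG)) := by
  rw [← Subgroup.orderOf_mk a (mem_centralizer_singleton_iff.2 h)]
  exact orderOf_dvd_natCard _

/-- the conjugate of the base transposition -/
theorem ta_back {g x : MG} (h : (g * x * g⁻¹) ∈ centralizer ({tG LitFin.all.hG LitFin.all.hR} : Set MG)) :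
    LThreeB.Row.TA (g⁻¹ * tG LitFin.all.hG LitFin.all.hR * g) ∧
      x * (g⁻¹ * tG LitFin.all.hG LitFin.all.hR * g) = (g⁻¹ * tG LitFin.all.hG LitFin.all.hR * g) * x := by
  have h1 := mem_centralizer_singleton_iff.1 h
  refine ⟨isConj_iff.2 ⟨g⁻¹, by rw [inv_inv]⟩, ?_⟩
  set t := tG LitFin.all.hG LitFin.all.hR
  calc x * (g⁻¹ * t * g) = g⁻¹ * (g * x * g⁻¹ * t) * g := by group
    _ = g⁻¹ * (t * (g * x * g⁻¹)) * g := by rw [h1]
    _ = _ := by group

/-- **The 3-part.** -/
theorem not_three {q k : ℕ} (hqk : Adm q k) {x : MG} (hx : orderOf x = q) (hno : NoInv x) :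
    ¬ 3 ^ (7 + 1) ∣ Nat.card ↥(centralizer ({x} : Set MG)) := by
  have hfin : Finite MG := BpSpor.MBigModel.finite
  intro h
  obtain ⟨c, g, hg, hgx, hgt⟩ := exists_common (p := 3) (n := 20) (a := 8) (b := 13) Nat.prime_three
    (by rw [card_M]; norm_num) (N := centralizer ({x} : Set MG))
    (T := centralizer ({tG LitFin.all.hG LitFin.all.hR} : Set MG)) h (by rw [card_cent_t taG]; norm_num) (by norm_num)
  obtain ⟨h1, h2⟩ := ta_back hgt
  exact hno (three_kill hqk hg h1 h2 hx (mem_centralizer_singleton_iff.1 hgx).symm)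

/-- **The elements of order 13.** -/
theorem not_four_thirteen {y : MG} (hy : orderOf y = 13) : ¬ 5 ^ 4 ∣ Nat.card ↥(centralizer ({y} : Set MG)) := by
  have hfin : Finite MG := BpSpor.MBigModel.finite
  intro h
  obtain ⟨c, v, hv, hvy, hvt⟩ := exists_common (p := 5) (n := 9) (a := 4) (b := 6) Nat.prime_five
    (by rw [card_M]; norm_num) (N := centralizer ({y} : Set MG))
    (T := centralizer ({tG LitFin.all.hG LitFin.all.hR} : Set MG)) h (by rw [card_cent_t taG]; norm_num) (by norm_num)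
  obtain ⟨h1, h2⟩ := ta_back hvt
  refine not_thirteen hv (ev_of_ta hv h1 h2) ?_
  rw [← hy]
  exact dvd_cent (mem_centralizer_singleton_iff.1 hvy).symm

/-- the order of `C(x)` is odd -/
theorem odd_of {x : MG} (hno : NoInv x) : ¬ 2 ∣ Nat.card ↥(centralizer ({x} : Set MG)) := by
  have hfin : Finite MG := BpSpor.MBigModel.finite
  intro h
  have : Fact (Nat.Prime 2) := ⟨Nat.prime_two⟩
  obtain ⟨v, hv⟩ := exists_prime_orderOf_dvd_card' 2 h
  exact hno ⟨v, by rw [Subgroup.orderOf_coe, hv], mem_centralizer_singleton_iff.1 v.2⟩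

theorem chk13 : ∀ j < 4, 13 ^ j % 5 = 1 → j = 0 := by decide

/-- **`13 ^ 2` and `5 ^ 4`.** -/
theorem not_both {x : MG} (hno : NoInv x) (h13 : 13 ^ 2 ∣ Nat.card ↥(centralizer ({x} : Set MG))) :
    ¬ 5 ^ 4 ∣ Nat.card ↥(centralizer ({x} : Set MG)) := by
  have hfin : Finite MG := BpSpor.MBigModel.finite
  have hF5 : Fact (Nat.Prime 5) := ⟨Nat.prime_five⟩
  have hF13 : Fact (Nat.Prime 13) := ⟨by norm_num⟩
  intro h5
  obtain ⟨C, hC⟩ : ∃ C : Subgroup MG, C = centralizer ({x} : Set MG) := ⟨_, rfl⟩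
  rw [← hC] at h13 h5
  have hodd : Odd (Nat.card ↥C) := by
    rw [hC, ← Nat.not_even_iff_odd, even_iff_two_dvd]
    exact odd_of hno
  have hsol : Group.IsSolvable ↥C := S0205.result hodd
  have hCM : Nat.card ↥C ∣ 808017424794512875886459904961710757005754368000000000 := by
    rw [← card_M]
    exact card_subgroup_dvd_card C
  obtain ⟨b, m, hm, hm2⟩ := Nat.exists_eq_pow_mul_and_not_dvd (n := Nat.card ↥C) Nat.card_pos.ne' 5 (by norm_num)
  have hm0 : m ≠ 0 := by
    rintro rfl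
    exact hm (dvd_zero _)
  obtain ⟨c, l, hl, hl2⟩ := Nat.exists_eq_pow_mul_and_not_dvd (n := m) hm0 13 (by norm_num)
  have hb9 : b ≤ 9 := by
    by_contra hcon
    have h1 : 5 ^ 10 ∣ 808017424794512875886459904961710757005754368000000000 :=
      (pow_dvd_pow 5 (by omega)).trans ((Dvd.intro _ hm2.symm).trans hCM)
    norm_num at h1
  have hcm : 13 ^ c ∣ Nat.card ↥C := by
    rw [hm2, hl2]
    exact Dvd.dvd.mul_left (dvd_mul_right _ _) _
  have hc3 : c ≤ 3 := by
    by_contra hcon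
    have h1 : 13 ^ 4 ∣ 808017424794512875886459904961710757005754368000000000 :=
      (pow_dvd_pow 13 (by omega)).trans (hcm.trans hCM)
    norm_num at h1
  have hb4 : 4 ≤ b := by
    rw [hm2] at h5
    by_contra hcon
    have h1 : 5 ^ 4 ∣ 5 ^ b := by
      have h2 : Nat.Coprime (5 ^ 4) m := Nat.Coprime.pow_left 4 ((Nat.prime_five.coprime_iff_not_dvd).2 hm)
      exact h2.dvd_of_dvd_mul_right h5
    have h2 := (Nat.pow_dvd_pow_iff_le_right (by norm_num : 1 < 5)).1 h1
    omega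
  have hc2 : 2 ≤ c := by
    rw [hm2, hl2] at h13
    by_contra hcon
    have h1 : 13 ^ 2 ∣ 13 ^ c := by
      have h2 : Nat.Coprime (13 ^ 2) l := Nat.Coprime.pow_left 2 ((hF13.out.coprime_iff_not_dvd).2 hl)
      have h3 : Nat.Coprime (13 ^ 2) (5 ^ b) := Nat.Coprime.pow _ _ (by norm_num)
      exact h2.dvd_of_dvd_mul_right (h3.dvd_of_dvd_mul_left h13)
    have h2 := (Nat.pow_dvd_pow_iff_le_right (by norm_num : 1 < 13)).1 h1
    omega
  -- the Hall subgroup
  have hl5 : ¬ 5 ∣ l := fun h => hm (hl2 ▸ Dvd.dvd.mul_left h _)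
  obtain ⟨K, hK⟩ := Cfsg.Agent.Solvable.Hall.hall_exists (G := ↥C) (5 ^ b * 13 ^ c) l
    (by rw [hm2, hl2, mul_assoc]) (Nat.Coprime.mul_left ((Nat.prime_five.coprime_iff_not_dvd.2 hl5).pow_left b)
      ((hF13.out.coprime_iff_not_dvd.2 hl).pow_left c))
  -- the Sylow 5-subgroup
  obtain ⟨S⟩ : Nonempty (Sylow 5 ↥K) := inferInstance
  have hSc : Nat.card ↥(S : Subgroup ↥K) = 5 ^ b := by
    have h1 := S.card_eq_multiplicity
    rw [h1, hK, Nat.factorization_mul (pow_pos (by norm_num) b).ne' (pow_pos (by norm_num) c).ne', Finsupp.add_apply,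
      Nat.prime_five.factorization_pow, Finsupp.single_eq_same, hF13.out.factorization_pow,
      Finsupp.single_eq_of_ne (by norm_num), add_zero]
  have hSi : (S : Subgroup ↥K).index = 13 ^ c := by
    have h1 := (S : Subgroup ↥K).card_mul_index
    rw [hSc, hK] at h1
    exact Nat.eq_of_mul_eq_mul_left (pow_pos (by norm_num) b) h1
  have hSy : Nat.card (Sylow 5 ↥K) = 1 := by
    have h1 := Sylow.card_dvd_index S
    rw [hSi] at h1
    obtain ⟨j, hj, hj'⟩ := (Nat.dvd_prime_pow hF13.out).1 h1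
    have h2 : Nat.card (Sylow 5 ↥K) ≡ 1 [MOD 5] := card_sylow_modEq_one 5 ↥K
    rw [hj'] at h2 ⊢
    rw [chk13 j (by omega) h2, pow_zero]
  have hsub : Subsingleton (Sylow 5 ↥K) := (Nat.card_eq_one_iff_unique.1 hSy).1
  have hSn : (S : Subgroup ↥K).Normal := by
    have := hsub
    infer_instance
  -- the subgroup of order `13 ^ 2`
  obtain ⟨E, hE⟩ := Sylow.exists_subgroup_card_pow_prime (G := ↥K) 13 (n := 2) (by
    rw [hK]
    exact Dvd.dvd.mul_left (pow_dvd_pow 13 hc2) _)
  have h3 := Cop.le_three (P := (S : Subgroup ↥K)) (E := E) hSc hb9 hE (fun y _ hy h => by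
    refine not_four_thirteen (y := ((y : ↥C) : MG)) (by rw [Subgroup.orderOf_coe, Subgroup.orderOf_coe, hy]) ?_
    refine h.trans ?_
    rw [← card_map_of_injective K.subtype_injective, ← card_map_of_injective C.subtype_injective]
    refine card_dvd_of_le ?_
    rintro _ ⟨_, ⟨g, hg, rfl⟩, rfl⟩
    have h4 := mem_centralizer_singleton_iff.1 hg.2
    exact mem_centralizer_singleton_iff.2 (congrArg (fun t : ↥K => (((t : ↥C) : MG))) h4))
  omega

/-- the order of the Monster -/
theorem card_M' : Nat.card MG = 2 ^ 46 * (17 ^ 1 * (19 ^ 1 * (23 ^ 1 * (29 ^ 1 * (31 ^ 1 * (41 ^ 1 * (47 ^ 1 * (59 ^ 1 *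
    (71 ^ 1 * (3 ^ 20 * (11 ^ 2 * (13 ^ 3 * (5 ^ 9 * 7 ^ 6))))))))))))) := by
  rw [card_M]
  norm_num

/-- the exact centralizers of the elements of large prime order -/
structure Exact : Prop where
  nineteen : ∀ y : MG, orderOf y = 19 → Nat.card ↥(centralizer ({y} : Set MG)) = 60 * 19
  twentythree : ∀ y : MG, orderOf y = 23 → Nat.card ↥(centralizer ({y} : Set MG)) = 24 * 23
  thirtyone : ∀ y : MG, orderOf y = 31 → Nat.card ↥(centralizer ({y} : Set MG)) = 6 * 31
  fortyone : ∀ y : MG, orderOf y = 41 → Nat.card ↥(centralizer ({y} : Set MG)) = 41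
  seventyone : ∀ y : MG, orderOf y = 71 → Nat.card ↥(centralizer ({y} : Set MG)) = 71

/-- an element of order `q` and an element of order `r` do not commute -/
theorem no_comm {q r c : ℕ} (hr : r.Prime) (hq : ¬ q ∣ c)
    (hc : ∀ y : MG, orderOf y = r → Nat.card ↥(centralizer ({y} : Set MG)) = c) {x : MG} (hx : orderOf x = q) :
    ¬ r ∣ Nat.card ↥(centralizer ({x} : Set MG)) := by
  have hfin : Finite MG := BpSpor.MBigModel.finite
  have : Fact r.Prime := ⟨hr⟩
  intro h
  obtain ⟨y, hy⟩ := exists_prime_orderOf_dvd_card' r h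
  apply hq
  rw [← hc y (by rw [Subgroup.orderOf_coe, hy]), ← hx]
  exact dvd_cent (mem_centralizer_singleton_iff.1 y.2).symm

end Cfsg.Agent.H8.Mon
end
end

-- part: H740/OreM/CaseT
section
set_option linter.all false
open scoped Cfsg.Agent.FastGrp

/-!
# S2443, row M, piece MP3 (helper740)

`card_cent_le` : `|C(g)| ≤ K` for `g` not a 2-element with a `2A`-involution among its powers, `K ≥ 774741019852800` a bound for
the orders of the centralizers of the elements of prime order `≥ 5`; `case_t` : these elements are commutators.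
-/

set_option autoImplicit false

namespace Cfsg.Agent.H740.OreM

open Subgroup Cfsg
open Cfsg.Agent.BpSpor.MBigModel (MG)
open Cfsg.Agent.H777.Ore

/-- an odd prime divisor -/
theorem exists_odd_prime {n : ℕ} (h0 : n ≠ 0) (h : ∀ k, n ≠ 2 ^ k) : ∃ p : ℕ, p.Prime ∧ p ≠ 2 ∧ p ∣ n := by
  by_contra hcon
  push Not at hcon
  apply h n.primeFactorsList.length
  exact Nat.eq_prime_pow_of_unique_prime_dvd h0 fun {d} hd hdn => by
    by_contra hne
    exact hcon d hd hne hdn

theorem card_cent_le {K : ℕ} (hK : 774741019852800 ≤ K)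
    (hB : ∀ {x : MG} {q : ℕ}, q.Prime → 5 ≤ q → orderOf x = q → Nat.card ↥(centralizer ({x} : Set MG)) ≤ K)
    {v g : MG} (hv : LThreeB.Row.TA v) (hvg : v ∈ zpowers g) (h2 : ∀ k, orderOf g ≠ 2 ^ k) :
    Nat.card ↥(centralizer ({g} : Set MG)) ≤ K := by
  have hfin : Finite MG := BpSpor.MBigModel.finite
  obtain ⟨p, hp, hp2, hpg⟩ := exists_odd_prime (orderOf_pos g).ne' h2
  obtain ⟨m, hm⟩ := hpg
  have hm0 : m ≠ 0 := by
    rintro rfl
    exact (orderOf_pos g).ne' (by rw [hm, mul_zero])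
  have ho : orderOf (g ^ m) = p := by
    rw [orderOf_pow_of_dvd hm0 ⟨p, by rw [hm, mul_comm]⟩, hm]
    exact Nat.mul_div_cancel p (Nat.pos_of_ne_zero hm0)
  have hle1 : centralizer ({g} : Set MG) ≤ centralizer ({g ^ m} : Set MG) := by
    intro c hc
    have hc' : Commute c g := mem_centralizer_singleton_iff.1 hc
    exact mem_centralizer_singleton_iff.2 (hc'.pow_right m).eq
  have hle2 : centralizer ({g} : Set MG) ≤ centralizer ({v} : Set MG) := by
    intro c hc
    have hc' : Commute c g := mem_centralizer_singleton_iff.1 hc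
    obtain ⟨k, hk⟩ := hvg
    have hk' : g ^ k = v := hk
    rw [← hk']
    exact mem_centralizer_singleton_iff.2 (hc'.zpow_right k).eq
  by_cases h3 : p = 3
  · subst h3
    have hcomm : g ^ m * v = v * g ^ m := by
      obtain ⟨k, hk⟩ := hvg
      have hk' : g ^ k = v := hk
      rw [← hk']
      exact (((Commute.refl g).pow_left m).zpow_right k).eq
    exact (Subgroup.card_le_of_le (le_inf hle1 hle2)).trans ((card_three ho hv hcomm).trans hK)
  · have h5 : 5 ≤ p := by
      have h2' := hp.two_le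
      by_contra hcon
      interval_cases p
      · exact hp2 rfl
      · exact h3 rfl
      · norm_num at hp
    exact (Subgroup.card_le_of_le hle1).trans (hB hp h5 ho)

/-- **MP3**, for an arbitrary bound `K`. -/
theorem case_t {K : ℕ} (hK : 774741019852800 ≤ K)
    (hB : ∀ {x : MG} {q : ℕ}, q.Prime → 5 ≤ q → orderOf x = q → Nat.card ↥(centralizer ({x} : Set MG)) ≤ K)
    (hS : ∀ g : MG, Nat.card ↥(centralizer ({g} : Set MG)) ≤ K → IsC g) (v g : MG) (hv : LThreeB.Row.TA v)
    (hvg : v ∈ zpowers g) (h2 : ∀ k, orderOf g ≠ 2 ^ k) : IsC g :=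
  hS g (card_cent_le hK hB hv hvg h2)

end Cfsg.Agent.H740.OreM
end
end
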